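import Cfsg.Agent.SuzRankThree.Setting
import Cfsg.Agent.SuzG24Iso.Main
import Cfsg.Agent.CosetCert.SuzOrder.Main
import Cfsg.Agent.CosetCert.SuzG24.Main
import Cfsg.Prelude.Def_Spor_Suz

/-!
# Recognition of the Suzuki group as a rank three group on 1782 points
-/

set_option autoImplicit false
set_option maxRecDepth 100000

namespace Cfsg.Agent.SuzRankThree

open MulAction
open Cfsg.Agent.G2Four (K)
open Cfsg.Agent.CosetCert

attribute [local irreducible] sM subA nbSet bitsOf kap

theorem rel_mask {i : Fin 416} {j : Fin 1365} : Rel (some (.inl i)) (some (.inr j)) ↔ i ∈ sM j :=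
  Iff.rfl

/-- An automorphism of the model fixing the top point normalises `G2(4)`. -/
theorem normalise_model {y : Equiv.Perm V} (hy : ∀ u v, Rel (y u) (y v) ↔ Rel u v)
    (hy0 : y none = none) {ρA : ↥grp →* Equiv.Perm V}
    (hA : ∀ x u v, Rel (ρA x u) (ρA x v) ↔ Rel u v) (hA' : ∀ x, ρA x = actV x) (x : ↥grp) :
    ∃ x' : ↥grp, y * actV x * y⁻¹ = actV x' := by
  have hinl : ∀ i, ∃ i', y (some (.inl i)) = some (.inl i') := by
    intro i
    have h := (hy none (some (.inl i))).2 trivial
    rw [hy0] at h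
    rcases hv : y (some (.inl i)) with _ | (i' | j')
    · rw [hv] at h; exact h.elim
    · exact ⟨i', rfl⟩
    · rw [hv] at h; exact h.elim
  choose π hπ using hinl
  have hinj : Function.Injective π := fun i j e => by
    have := y.injective ((hπ i).trans ((congrArg (fun k => some (Sum.inl k)) e).trans (hπ j).symm))
    simpa using this
  let p : Equiv.Perm (Fin 416) := Equiv.ofBijective π (Finite.injective_iff_bijective.1 hinj)
  have hp : Pres p := fun i k => by
    have := hy (some (.inl i)) (some (.inl k))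
    rw [hπ, hπ] at this
    exact this
  have hn := normalise hp x
  refine ⟨⟨_, hn⟩, ?_⟩
  set x' : ↥grp := ⟨_, hn⟩ with hx'
  have hact : ∀ z u v, Rel (actV z u) (actV z v) ↔ Rel u v := fun z u v => by
    rw [← hA' z]; exact hA z u v
  have hap : ∀ i, ap x' (p i) = p (ap x i) := by
    intro i
    show (p * (x : Equiv.Perm (Fin 416)) * p⁻¹) (p i) = p ((x : Equiv.Perm (Fin 416)) i)
    simp
  -- the two sides agree on the 416 points
  have hl : ∀ i, y (actV x (some (.inl i))) = actV x' (y (some (.inl i))) := by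
    intro i
    show y (some (.inl (ap x i))) = _
    rw [hπ, hπ]
    exact congrArg (fun k => some (Sum.inl k)) (hap i).symm
  have hall : ∀ v, y (actV x v) = actV x' (y v) := by
    rintro (_ | (i | j))
    · show y none = actV x' (y none)
      rw [hy0]; rfl
    · exact hl i
    · show y (some (.inr (kap x j))) = actV x' (y (some (.inr j)))
      have hR : ∀ j, ∃ k, y (some (.inr j)) = some (.inr k) := by
        intro j
        rcases hv : y (some (.inr j)) with _ | (i' | j')
        · exact absurd (y.injective (hv.trans hy0.symm)) (by simp)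
        · exfalso
          have h := (hy none (some (.inr j))).1 (by rw [hy0, hv]; trivial)
          exact h
        · exact ⟨j', rfl⟩
      obtain ⟨k, hk⟩ := hR j
      obtain ⟨k', hk'⟩ := hR (kap x j)
      rw [hk, hk', actV_apply, actFun]
      refine congrArg (fun m => some (Sum.inr m)) (sM_inj (Finset.ext fun r => ?_))
      obtain ⟨s, rfl⟩ := (Finite.injective_iff_surjective.1 hinj) r
      obtain ⟨i, rfl⟩ : ∃ i, ap x i = s := ⟨ap x⁻¹ s, ap_ap_inv x s⟩
      have e : π (ap x i) = ap x' (π i) := (hap i).symm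
      have h1 : π (ap x i) ∈ sM k' ↔ i ∈ sM j := by
        have a1 := hy (some (.inl (ap x i))) (some (.inr (kap x j)))
        rw [hπ, hk', rel_mask] at a1
        exact a1.trans (hact x (some (.inl i)) (some (.inr j)))
      have h2 : ap x' (π i) ∈ sM (kap x' k) ↔ i ∈ sM j := by
        have a1 := hact x' (some (.inl (π i))) (some (.inr k))
        have a2 := hy (some (.inl i)) (some (.inr j))
        rw [hπ, hk, rel_mask] at a2
        exact a1.trans a2
      rw [h1, e, h2]
  refine Equiv.ext fun v => ?_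
  rw [Equiv.Perm.mul_apply, Equiv.Perm.mul_apply, hall]
  congr 1
  exact y.apply_symm_apply v

/-- Two such groups are isomorphic when one of them is simple. -/
theorem equiv_of_settings {G G' : Type*} [Group G] [Group G'] [IsSimpleGroup G'] {Ω Ω' : Type*}
    [MulAction G Ω] [Fintype Ω] [MulAction G' Ω'] [Fintype Ω'] (S : Setting G Ω)
    (S' : Setting G' Ω') : Nonempty (G ≃* G') := by
  have := S.finite
  have := S'.finite
  obtain ⟨ρ, hρi, hρR, hρA, hρs, hρt⟩ := S.exists_rep
  obtain ⟨τ, hτi, hτR, hτA, hτs, hτt⟩ := S'.exists_rep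
  have key : ∀ g' : G', ∀ x, τ g' * τ (S'.f x) * (τ g')⁻¹ ∈ ρ.range := by
    intro g' x
    obtain ⟨g, hg⟩ := hρt (τ g' none)
    set y := (ρ g)⁻¹ * τ g' with hy
    have hy0 : y none = none := by
      rw [hy, Equiv.Perm.mul_apply, Equiv.Perm.inv_eq_iff_eq]
      exact hg.symm
    have hyR : ∀ u v, Rel (y u) (y v) ↔ Rel u v := fun u v => by
      rw [← hρR g (y u) (y v), hy]
      simpa using hτR g' u v
    obtain ⟨x', hx'⟩ := normalise_model hyR hy0 (ρA := τ.comp S'.f)
      (fun z u v => hτR (S'.f z) u v) hτA x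
    refine ⟨g * S.f x' * g⁻¹, ?_⟩
    rw [map_mul, map_mul, map_inv, hρA, ← hx', hy, hτA]
    group
  have hne : ∃ x, S'.f x ≠ 1 := by
    by_contra h
    push Not at h
    have := S'.inj ((h (letter 0)).trans (h 1).symm)
    have h2 : neW [0] [] = true := by decide +kernel
    have h3 := neW_spec h2
    simp only [evalW_single] at h3
    exact h3 (by rw [this]; rfl)
  have hall : ∀ g', τ g' ∈ ρ.range := by
    intro g'
    have hN : Subgroup.normalClosure (Set.range S'.f) = ⊤ := by
      refine (Subgroup.normalClosure_normal.eq_bot_or_eq_top).resolve_left fun h => ?_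
      obtain ⟨x, hx⟩ := hne
      exact hx (Subgroup.mem_bot.1 (h ▸ Subgroup.subset_normalClosure ⟨x, rfl⟩))
    have hmem : g' ∈ Subgroup.normalClosure (Set.range S'.f) := hN ▸ Subgroup.mem_top g'
    refine (show Subgroup.normalClosure (Set.range S'.f) ≤ ρ.range.comap τ from ?_) hmem
    rw [Subgroup.normalClosure, Subgroup.closure_le]
    intro z hz
    obtain ⟨w, ⟨x, rfl⟩, hw⟩ := Group.mem_conjugatesOfSet_iff.1 hz
    obtain ⟨k, rfl⟩ := isConj_iff.1 hw
    show τ (k * S'.f x * k⁻¹) ∈ ρ.range
    rw [map_mul, map_mul, map_inv]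
    exact key k x
  let e1 := MonoidHom.ofInjective hρi
  let e2 := MonoidHom.ofInjective hτi
  have hle : τ.range ≤ ρ.range := by
    rintro _ ⟨g', rfl⟩
    exact hall g'
  have heq : τ.range = ρ.range := Subgroup.eq_of_le_of_card_ge hle (by
    rw [← Nat.card_congr e1.toEquiv, ← Nat.card_congr e2.toEquiv, S.card_group, S'.card_group])
  exact ⟨e1.trans ((MulEquiv.subgroupCongr heq.symm).trans e2.symm)⟩

/-- The presented Suzuki group in this situation. -/
theorem exists_suz_setting :
    ∃ (Ω : Type) (_ : MulAction Cfsg.Spor.Suz Ω) (_ : Fintype Ω),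
      Nonempty (Setting Cfsg.Spor.Suz Ω) := by
  classical
  obtain ⟨hsimple, hcard⟩ := SuzOrder.order_and_simple
  have : Finite Cfsg.Spor.Suz := SuzOrder.card_bound.1
  set H : Subgroup Cfsg.Spor.Suz := Data.sub SuzG24Iso.suzRels SuzG24.subGens with hH
  obtain ⟨e⟩ := SuzG24Iso.sub_iso
  obtain ⟨e'⟩ := exists_equiv (F := K) card_K
  let f : ↥grp →* Cfsg.Spor.Suz := H.subtype.comp (e'.symm.trans e.symm).toMonoidHom
  let a : Cfsg.Spor.Suz ⧸ H := ((1 : Cfsg.Spor.Suz) : Cfsg.Spor.Suz ⧸ H)
  have hst : stabilizer Cfsg.Spor.Suz a = H := MulAction.stabilizer_quotient H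
  obtain ⟨b, hb⟩ := SuzG24.suborbit0
  obtain ⟨c, hc⟩ := SuzG24.suborbit1
  let _ : Fintype (Cfsg.Spor.Suz ⧸ H) := Fintype.ofFinite _
  refine ⟨Cfsg.Spor.Suz ⧸ H, inferInstance, inferInstance, ⟨{
    card := by
      have := SuzG24.index_val
      rw [Subgroup.index_eq_card] at this
      rw [← Nat.card_eq_fintype_card]
      exact this
    trans := inferInstance
    faith := fun g hg => ?_
    a := a
    b := b
    c := c
    f := f
    inj := H.subtype_injective.comp (e'.symm.trans e.symm).injective
    mem_stab := fun g => ?_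
    orb_b := by rw [hst]; exact hb
    orb_c := by rw [hst]; exact hc }⟩⟩
  · have hN : (MulAction.toPermHom Cfsg.Spor.Suz (Cfsg.Spor.Suz ⧸ H)).ker = ⊥ := by
      refine (hsimple.eq_bot_or_eq_top_of_normal _ (MonoidHom.normal_ker _)).resolve_right fun htop => ?_
      have hall : ∀ z : Cfsg.Spor.Suz, z ∈ H := fun z => by
        rw [← hst, mem_stabilizer_iff]
        have hz : MulAction.toPermHom Cfsg.Spor.Suz (Cfsg.Spor.Suz ⧸ H) z = 1 :=
          MonoidHom.mem_ker.1 (htop ▸ Subgroup.mem_top z)
        exact (Equiv.ext_iff.1 hz a :)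
      have h1 := SuzG24.index_val
      rw [show Data.sub SuzG24Iso.suzRels SuzG24.subGens = ⊤ from
        (Subgroup.eq_top_iff' _).2 hall, Subgroup.index_top] at h1
      norm_num at h1
    rw [← Subgroup.mem_bot, ← hN, MonoidHom.mem_ker]
    exact Equiv.ext hg
  · rw [← mem_stabilizer_iff, hst]
    constructor
    · intro hg
      exact ⟨(e'.symm.trans e.symm).symm ⟨g, hg⟩, by simp [f]⟩
    · rintro ⟨x, rfl⟩
      exact ((e'.symm.trans e.symm) x).2

/-- The recognition theorem. -/
theorem main {Ω : Type*} [Fintype Ω] [DecidableEq Ω] (hΩ : Fintype.card Ω = 1782)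
    (G : Subgroup (Equiv.Perm Ω)) [IsPretransitive G Ω] (a : Ω) (F : Type) [Field F] [Fintype F]
    (hF : Fintype.card F = 4) (e : stabilizer G a ≃* Cfsg.Lie.chevG2.group F) (b c : Ω)
    (hb : (orbit (stabilizer G a) b).ncard = 416) (hc : (orbit (stabilizer G a) c).ncard = 1365) :
    Cfsg.Spor.IsoSuz G := by
  obtain ⟨e1⟩ := exists_equiv hF
  let i : ↥grp ≃* ↥(stabilizer G a) := (e.trans e1).symm
  let S : Setting ↥G Ω :=
    { card := hΩ
      trans := inferInstance
      faith := fun g hg => Subtype.ext (Equiv.ext hg)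
      a := a
      b := b
      c := c
      f := (stabilizer G a).subtype.comp i.toMonoidHom
      inj := (stabilizer G a).subtype_injective.comp i.injective
      mem_stab := fun g => ⟨fun hg => ⟨i.symm ⟨g, hg⟩, by simp⟩, fun ⟨x, hx⟩ => hx ▸ (i x).2⟩
      orb_b := hb
      orb_c := hc }
  obtain ⟨Ω', _, _, ⟨S'⟩⟩ := exists_suz_setting
  have : IsSimpleGroup Cfsg.Spor.Suz := SuzOrder.order_and_simple.1
  exact equiv_of_settings S S'

end Cfsg.Agent.SuzRankThree
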