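import Cfsg.Agent.G2FourMult.CertCheckB
import Cfsg.Agent.G2FourJ2.Rep
import Cfsg.Agent.Chev.SimpleAll
import Cfsg.Agent.SuzRankThree.Letters

/-!
# `G2(4)` as a group of permutations of 416 points
-/

set_option autoImplicit false
set_option maxRecDepth 100000

namespace Cfsg.Agent.SuzRankThree

open Cfsg Cfsg.Lie Cfsg.Agent.Compute Cfsg.Agent.StemCert
open Cfsg.Agent.G2Four (K enc)

attribute [local irreducible] G2FourMult.cert G2FourMult.codes G2FourMult.genWords letterCodes

/-- The action of the Steinberg group on 416 points. -/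
noncomputable def stAct416 : chevG2.SteinbergGroup K →* Equiv.Perm (Fin 416) :=
  G2FourJ2.stPerm (RingHom.id K)

/-- `G2(4)` acting on 416 points. -/
noncomputable def grp : Subgroup (Equiv.Perm (Fin 416)) := stAct416.range

theorem card_K : Fintype.card K = 4 := Cfsg.Agent.ThreeTrans.SU32.F4.card_eq

/-- A field element with the given code. -/
def tK : ℕ → K
  | 0 => .o
  | 1 => .e
  | 2 => .w
  | _ => .w'

theorem enc_tK : ∀ k : Fin 4, enc (tK k) = (k : ℕ) := by decide

/-- The numbered root elements. -/
noncomputable def rootA (i : ℕ) : ↥grp :=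
  stAct416.rangeRestrict
    (PresentedGroup.mk (chevG2.steinbergRels K) (chevG2.stWord [(i / 4, tK (i % 4))]))

theorem coded_root : Coded (w := 9) (k := 48) grp.subtype rootA G2FourJ2.rootCodes := by
  intro i hi x
  have hr : i / 4 < 12 := by omega
  rw [Subgroup.coe_subtype, rootA, MonoidHom.coe_rangeRestrict, stAct416, G2FourJ2.stPerm_stWord]
  simp only [List.map_cons, List.map_nil, RingHom.id_apply]
  have h1 : G2FourJ2.rootCode (i / 4) (tK (i % 4)) = G2FourJ2.rootCodes.getD i 0 := by
    rw [G2FourJ2.rootCode, show enc (tK (i % 4)) = i % 4 from enc_tK ⟨i % 4, by omega⟩]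
    congr 1
    change 4 * (i / 4) + i % 4 = i
    omega
  rw [(G2FourJ2.wPerm_spec [(i / 4, tK (i % 4))] (by simp [hr])).2, G2FourJ2.wordCode_cons,
    G2FourJ2.wordCode_nil,
    G2FourJ2.den_comp (G2FourJ2.rootCode_ok hr _) (codePerm_id (by norm_num)), G2FourJ2.den_id,
    mul_one, G2FourJ2.den_apply416 (G2FourJ2.rootCode_ok hr _), h1]

/-- The five generators. -/
noncomputable def five (s : ℕ) : ↥grp := evalW rootA (G2FourMult.genWords.getD s [])

theorem coded_five : Coded (w := 9) (k := 5) grp.subtype five G2FourMult.codes :=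
  LeechModel.coded_of_wordsB coded_root G2FourMult.words_ok

theorem hlt : ∀ b ∈ G2FourMult.base, b < 416 := fun b hb => by
  simpa [Nat.blt_eq] using allB_spec G2FourMult.blt_ok b hb

theorem wPerm_ne_one : stAct416 ≠ 1 := by
  intro h
  obtain ⟨x, hx⟩ : ∃ x : Fin 416, getField 9 (G2FourMult.codes.getD 0 0) x ≠ (x : ℕ) :=
    ⟨⟨1, by norm_num⟩, by decide +kernel⟩
  have h5 : (five 0 : Equiv.Perm (Fin 416)) = 1 := by
    obtain ⟨s, hs⟩ := (five 0).2
    rw [← hs, h]
    rfl
  have h1 := coded_five 0 (by norm_num) x
  rw [Subgroup.coe_subtype, h5] at h1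
  exact hx h1.symm

theorem simple_st : IsSimpleGroup (chevG2.SteinbergGroup K) := by
  obtain ⟨e⟩ := G2Four.exists_steinberg_equiv K
  have := (Chev.g2_simple K ⟨(.w : K), by decide, by decide⟩).1
  exact MulEquiv.isSimpleGroup e

theorem stAct416_injective : Function.Injective stAct416 := by
  rw [← MonoidHom.ker_eq_bot_iff]
  exact (simple_st.eq_bot_or_eq_top_of_normal _ stAct416.normal_ker).resolve_right
    fun h => wPerm_ne_one (MonoidHom.ext fun x => MonoidHom.mem_ker.1 (h ▸ Subgroup.mem_top x))

theorem card_grp : Nat.card ↥grp = 251596800 :=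
  (Nat.card_congr (MonoidHom.ofInjective stAct416_injective).toEquiv).symm.trans
    (G2Four.card_steinberg card_K)

instance : Finite ↥grp := Nat.finite_of_card_ne_zero (by rw [card_grp]; norm_num)

/-- Every copy of `G2(4)` is this permutation group. -/
theorem exists_equiv {F : Type} [Field F] [Fintype F] (hF : Fintype.card F = 4) :
    Nonempty (↥(chevG2.group F) ≃* ↥grp) := by
  obtain ⟨e⟩ := G2Four.exists_steinberg_equiv F
  let ψ : F ≃+* K := FiniteField.ringEquivOfCardEq (hF.trans card_K.symm)
  let f : ↥(chevG2.group F) →* Equiv.Perm (Fin 416) :=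
    (G2FourJ2.stPerm (ψ : F →+* K)).comp e.symm.toMonoidHom
  have hle : grp ≤ f.range := by
    rw [grp, MonoidHom.range_eq_map, ← PresentedGroup.closure_range_of, MonoidHom.map_closure,
      Subgroup.closure_le]
    rintro _ ⟨_, ⟨⟨r, t⟩, rfl⟩, rfl⟩
    refine ⟨e (PresentedGroup.of (r, ψ.symm t)), ?_⟩
    simp only [f, MonoidHom.comp_apply, MulEquiv.coe_toMonoidHom, MulEquiv.symm_apply_apply,
      stAct416, G2FourJ2.stPerm, PresentedGroup.toGroup.of, G2FourJ2.genImage, RingHom.coe_coe,
      RingEquiv.apply_symm_apply, RingHom.id_apply]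
  have hF' : Nat.card ↥(chevG2.group F) = 251596800 := by
    rw [← Nat.card_congr e.toEquiv, G2Four.card_steinberg hF]
  have : Finite ↥(chevG2.group F) := Nat.finite_of_card_ne_zero (by rw [hF']; norm_num)
  have : Finite ↥f.range := Subgroup.instFiniteSubtypeMem _
  have h1 : Nat.card ↥f.range ≤ Nat.card ↥(chevG2.group F) :=
    Nat.card_le_card_of_surjective f.rangeRestrict f.rangeRestrict_surjective
  have h2 : grp = f.range := Subgroup.eq_of_le_of_card_ge hle (by rw [card_grp, ← hF']; exact h1)
  have hb : Function.Bijective f.rangeRestrict :=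
    f.rangeRestrict_surjective.bijective_of_nat_card_le (by rw [← h2, card_grp, hF'])
  exact ⟨(MulEquiv.ofBijective f.rangeRestrict hb).trans (MulEquiv.subgroupCongr h2.symm)⟩

theorem five_generates : ∀ x : ↥grp, x ∈ Submonoid.closure (five '' {s | s < 5}) :=
  generates_of_card coded_five G2FourMult.wf_ok G2FourMult.below_ok hlt G2FourMult.distinct_ok
    (by rw [G2FourMult.size_ok.1, card_grp])

theorem isBase : IsBase grp.subtype G2FourMult.base :=
  isBase_of_card coded_five G2FourMult.wf_ok G2FourMult.below_ok hlt G2FourMult.distinct_ok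
    (by rw [G2FourMult.size_ok.1, card_grp])

/-- The number of letters. -/
def nLetters : ℕ := 58

theorem letters_ok :
    LeechModel.wordsB 416 9 5 G2FourMult.codes letterWords letterCodes nLetters = true := by
  decide +kernel

/-- The letters. -/
noncomputable def letter (s : ℕ) : ↥grp := evalW five (letterWords.getD s [])

theorem coded : Coded (w := 9) (k := nLetters) grp.subtype letter letterCodes :=
  LeechModel.coded_of_wordsB coded_five letters_ok

theorem letter_five {s : ℕ} (hs : s < 5) : letter s = five s := by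
  interval_cases s <;> simp [letter, letterWords, evalW]

theorem generates : ∀ x : ↥grp, x ∈ Submonoid.closure (letter '' {s | s < 5}) := fun x => by
  rw [Set.image_congr (s := {s | s < 5}) (f := letter) (g := five) (fun s hs => letter_five hs)]
  exact five_generates x

/-- A property preserved by the five generators and true of one holds everywhere. -/
theorem grp_induction {p : ↥grp → Prop} (h1 : p 1) (hm : ∀ s < 5, ∀ g, p g → p (letter s * g))
    (x : ↥grp) : p x := by
  induction generates x using Submonoid.closure_induction_left with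
  | one => exact h1
  | mul_left a ha b _ hb =>
    obtain ⟨s, hs, rfl⟩ := ha
    exact hm s hs b hb

/-- All letters of a word are known. -/
noncomputable def knownB (a : List ℕ) : Bool := allB (fun s => Nat.blt s nLetters) a

/-- Two words give the same element. -/
noncomputable def eqW (a b : List ℕ) : Bool :=
  knownB a && knownB b && eqOn 9 letterCodes G2FourMult.base a b

/-- Two words give different elements. -/
noncomputable def neW (a b : List ℕ) : Bool :=
  knownB a && knownB b && !eqOn 9 letterCodes G2FourMult.base a b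

theorem knownB_spec {a : List ℕ} (h : knownB a = true) : ∀ s ∈ a, s < nLetters :=
  fun s hs => Nat.blt_eq.mp (allB_spec h s hs)

theorem eqW_spec {a b : List ℕ} (h : eqW a b = true) : evalW letter a = evalW letter b := by
  simp only [eqW, Bool.and_eq_true] at h
  exact eq_of_eqOn coded isBase (knownB_spec h.1.1) (knownB_spec h.1.2) h.2

theorem allB_true {α : Type} {f : α → Bool} : ∀ {l : List α}, (∀ x ∈ l, f x = true) → allB f l = true
  | [], _ => rfl
  | x :: l, h => by
    show (f x && allB f l) = true
    rw [h x (by simp), allB_true fun y hy => h y (List.mem_cons_of_mem _ hy)]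
    rfl

theorem apply_word {a : List ℕ} (ha : knownB a = true) (x : Fin 416) :
    ((evalW letter a : ↥grp) : Equiv.Perm (Fin 416)) x = appW 9 letterCodes a (x : ℕ) :=
  appW_spec coded a (knownB_spec ha) x

theorem neW_spec {a b : List ℕ} (h : neW a b = true) : evalW letter a ≠ evalW letter b := fun e => by
  simp only [neW, Bool.and_eq_true, Bool.not_eq_true'] at h
  refine Bool.false_ne_true (h.2.symm.trans (allB_true fun x hx => ?_))
  rw [Nat.beq_eq, ← apply_word h.1.1 ⟨x, hlt x hx⟩, ← apply_word h.1.2 ⟨x, hlt x hx⟩, e]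

end Cfsg.Agent.SuzRankThree
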