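import Cfsg.Agent.SuzRankThree.ClassDefs

/-! Evaluation of the checks on the class of subgroups of order three. -/

set_option autoImplicit false
set_option maxRecDepth 100000
set_option maxHeartbeats 0
set_option Elab.async false

namespace Cfsg.Agent.SuzRankThree

open Cfsg.Agent.Compute Cfsg.Agent.StemCert

theorem inv_ok : invB = true := by decide +kernel

theorem conjLet_ok : conjLetB = true := by decide +kernel

theorem class_ok : allBelow 2080 classB = true := by decide +kernel

theorem key_ok : allBelow 2080 keyB = true := by decide +kernel

theorem p25_ok : p25B = true := by decide +kernel

theorem orb_ok : orbB = true := by decide +kernel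

theorem witness_ok : witnessB = true := by decide +kernel

theorem member_ok : allBelow 2080 memberB = true := by decide +kernel

theorem count_ok : countB = true := by decide +kernel

end Cfsg.Agent.SuzRankThree
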