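import Cfsg.Agent.SuzRankThree.Base
import Cfsg.Agent.SuzRankThree.ClassData

/-!
# Checks on the class of subgroups of order three
-/

set_option autoImplicit false
set_option maxRecDepth 100000

namespace Cfsg.Agent.SuzRankThree

open Cfsg.Agent.Compute Cfsg.Agent.StemCert

/-- Some member of a list passes. -/
noncomputable def anyB {α : Type} (f : α → Bool) (l : List α) : Bool :=
  List.rec (motive := fun _ => Bool) false (fun x _ r => f x || r) l

theorem anyB_spec {α : Type} {f : α → Bool} : ∀ {l : List α}, anyB f l = true → ∃ x ∈ l, f x = true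
  | [], h => by simp [anyB] at h
  | x :: l, h => by
    have h' : (f x || anyB f l) = true := h
    rcases Bool.or_eq_true_iff.mp h' with h | h
    · exact ⟨x, by simp, h⟩
    · obtain ⟨y, hy, hf⟩ := anyB_spec h
      exact ⟨y, by simp [hy], hf⟩

/-- The letter of the conjugated element. -/
def zLet (e : ℕ) : ℕ := if e = 0 then lZ else lZi

/-- The word of a member of the class, or of its inverse. -/
noncomputable def zW (i e : ℕ) : List ℕ :=
  conjW.get [] i ++ zLet e :: (conjW.get [] i).reverse.map (fun s => Nat.add s 5)

/-- A word in the two letters of order five. -/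
noncomputable def pW (a b : ℕ) : List ℕ := List.replicate a lX ++ List.replicate b lY

/-- The word of a product of the normalising letters. -/
noncomputable def nW (w : List ℕ) : List ℕ := w.map fun m => lN.getD m 0

/-- The word of the inverse of a product of the normalising letters. -/
noncomputable def niW (w : List ℕ) : List ℕ := w.reverse.map fun m => lNi.getD m 0

/-- Inverse letters. -/
noncomputable def invB : Bool :=
  allBelow 5 (fun s => eqW [s, Nat.add s 5] [] && allB (fun w => Nat.blt w 5) [s]) &&
    eqW [lZ, lZi] [] && allBelow lN.length (fun m => eqW [lN.getD m 0, lNi.getD m 0] [])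

/-- The conjugating words use the five generators. -/
noncomputable def conjLetB : Bool :=
  allBelow 2080 fun i => allB (fun s => Nat.blt s 5) (conjW.get [] i)

/-- The class is closed under the generators. -/
noncomputable def classB (i : ℕ) : Bool :=
  allBelow 5 fun s => forceN ((classTab.get [] i).getD s 0) fun c =>
    Nat.blt (Nat.div c 2) 2080 &&
      eqW (s :: zW i 0) (zW (Nat.div c 2) (Nat.mod c 2) ++ [s])

/-- The key of a member. -/
noncomputable def keyOf (i : ℕ) : ℕ :=
  List.rec (motive := fun _ => ℕ → ℕ) (fun acc => acc)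
    (fun b _ rec acc => forceN (appW 9 letterCodes (zW i 0) b) fun v =>
      rec (Nat.add (Nat.mul acc 512) v)) G2FourMult.base 0

/-- The keys increase. -/
noncomputable def keyB (t : ℕ) : Bool :=
  Nat.blt (byKey.get 0 t) 2080 &&
    (Nat.beq (Nat.succ t) 2080 ||
      Nat.blt (keyOf (byKey.get 0 t)) (keyOf (byKey.get 0 (Nat.succ t))))

/-- The group of order 25 and the letters normalising it. -/
noncomputable def p25B : Bool :=
  eqW (List.replicate 5 lX) [] && eqW (List.replicate 5 lY) [] && eqW [lX, lY] [lY, lX] &&
    allBelow lN.length fun m =>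
      eqW [lN.getD m 0, lX, lNi.getD m 0]
          (pW ((nImg.getD m []).getD 0 (0, 0)).1 ((nImg.getD m []).getD 0 (0, 0)).2) &&
        eqW [lN.getD m 0, lY, lNi.getD m 0]
          (pW ((nImg.getD m []).getD 1 (0, 0)).1 ((nImg.getD m []).getD 1 (0, 0)).2)

/-- The orbit number of a point. -/
noncomputable def orbAt (q : ℕ) : ℕ := getField 5 orbNum q

/-- The orbits of the group of order 25. -/
noncomputable def orbB : Bool :=
  allBelow 416 fun q => forceN (orbAt q) fun j => forceN (getField 5 orbExp q) fun e =>
    Nat.blt j 20 && Nat.blt (orbRoot.getD j 0) 416 &&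
      Nat.beq (appW 9 letterCodes (pW (Nat.div e 5) (Nat.mod e 5)) (orbRoot.getD j 0)) q &&
      knownB (pW (Nat.div e 5) (Nat.mod e 5)) && (!Nat.beq j 0 || Nat.beq q 0)

/-- Expand a word in the two letters of order five and a further word. -/
noncomputable def expand (z : List ℕ) (w : List ℕ) : List ℕ :=
  w.flatMap fun k => cond (Nat.beq k 0) [lX] (cond (Nat.beq k 1) [lY] z)

/-- The expanded word has order thirteen. -/
noncomputable def order13B (z w : List ℕ) : Bool :=
  eqW (List.replicate 13 (expand z w)).flatten [] && neW (expand z w) []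

/-- A member is conjugate to its representative under the normaliser. -/
noncomputable def repConjB (i : ℕ) : Bool :=
  Nat.blt (repOf.get 0 i) 2080 && allB (fun m => Nat.blt m lN.length) (nWord.get [] i) &&
    (eqW (nW (nWord.get [] i) ++ zW (repOf.get 0 i) 0 ++ niW (nWord.get [] i)) (zW i 0) ||
      eqW (nW (nWord.get [] i) ++ zW (repOf.get 0 i) 0 ++ niW (nWord.get [] i)) (zW i 1))

/-- A centralising letter of prime order with a word of order thirteen. -/
noncomputable def centB (p : ℕ × ℕ × ℕ × List ℕ) : Bool :=
  (Nat.beq p.2.1 5 || Nat.beq p.2.1 7) &&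
    eqW (List.replicate p.2.1 p.2.2.1) [] && eqW (p.2.2.1 :: zW p.1 0) (zW p.1 0 ++ [p.2.2.1]) &&
    order13B [p.2.2.1] p.2.2.2

/-- The listed witnesses are right. -/
noncomputable def witnessB : Bool :=
  allB (fun p => order13B (zW p.1 0) p.2) witness && allB centB centWit

/-- The judgement on one member. -/
noncomputable def memberB (i : ℕ) : Bool :=
  forceN (excOf.get 0 i) fun e =>
    cond (Nat.beq e 0) (repConjB i && anyB (fun p => Nat.beq p.1 (repOf.get 0 i)) witness)
      (Nat.beq (appW 9 letterCodes (zW i 0) 0) 0 && knownB (zW i 0) && Nat.blt e 21 &&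
        allBelow 20 (fun j => Nat.beq j 0 || Nat.beq (Nat.succ j) e ||
          forceN ((movOf.get [] i).getD j 0) fun m =>
            Nat.blt m 416 && Nat.beq (orbAt m) j && !Nat.beq (appW 9 letterCodes (zW i 0) m) m) &&
        (Nat.beq e 1 || (repConjB i && anyB (fun p => Nat.beq p.1 (repOf.get 0 i)) centWit)))

/-- The number of members with a given exceptional orbit. -/
noncomputable def excCount (e n : ℕ) : ℕ :=
  Nat.rec (motive := fun _ => ℕ) 0
    (fun i r => cond (Nat.beq (excOf.get 0 i) e) (Nat.succ r) r) n

/-- Few members share an exceptional orbit. -/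
noncomputable def countB : Bool :=
  allBelow 21 fun e => Nat.blt e 2 || Nat.ble (excCount e 2080) 10

end Cfsg.Agent.SuzRankThree
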