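import Cfsg.Agent.SuzRankThree.ClassCheck

/-!
# Subgroups of index 416 in `G2(4)` fix one of the 416 points
-/

set_option autoImplicit false
set_option maxRecDepth 100000

namespace Cfsg.Agent.SuzRankThree

open Cfsg.Agent.Compute Cfsg.Agent.StemCert

attribute [local irreducible] letterCodes letterWords conjW classTab byKey repOf nWord excOf movOf
  orbNum orbExp G2FourMult.codes G2FourMult.base keyOf

/-! ### Generalities -/

section General

variable {Γ : Type*} [Group Γ] [Finite Γ]

theorem card_conjugates_mul (z : Γ) :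
    Nat.card (Set.range fun g : Γ => g * z * g⁻¹) *
      Nat.card (Subgroup.centralizer ({z} : Set Γ)) = Nat.card Γ := by
  have h1 := (Nat.card_congr (MulAction.orbitEquivQuotientStabilizer (ConjAct Γ) z))
  have h2 : Nat.card (MulAction.orbit (ConjAct Γ) z) *
      Nat.card (MulAction.stabilizer (ConjAct Γ) z) = Nat.card (ConjAct Γ) := by
    rw [h1]
    exact (Subgroup.card_eq_card_quotient_mul_card_subgroup _).symm
  have h3 : (MulAction.orbit (ConjAct Γ) z : Set Γ) = Set.range fun g : Γ => g * z * g⁻¹ := by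
    ext y
    constructor
    · rintro ⟨g, rfl⟩
      exact ⟨ConjAct.ofConjAct g, (ConjAct.smul_def g z).symm⟩
    · rintro ⟨g, rfl⟩
      exact ⟨ConjAct.toConjAct g, ConjAct.toConjAct_smul g z⟩
  rw [h3] at h2
  have h4 : Nat.card (MulAction.stabilizer (ConjAct Γ) z) =
      Nat.card (Subgroup.centralizer ({z} : Set Γ)) := by
    rw [ConjAct.stabilizer_eq_centralizer]
    rfl
  rw [h4] at h2
  exact h2

/-- An element of prime order lies in a subgroup of smaller index. -/
theorem mem_of_index_lt (D : Subgroup Γ) {l : Γ} {p : ℕ} (hp : p.Prime) (hl : l ^ p = 1)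
    (hD : D.index < p) : l ∈ D := by
  by_contra hn
  let f : Fin p → Γ ⧸ D := fun k => ((l ^ (k : ℕ) : Γ) : Γ ⧸ D)
  have hf : Function.Injective f := by
    have key : ∀ a b : ℕ, a < b → b < p → ((l ^ a : Γ) : Γ ⧸ D) ≠ ((l ^ b : Γ) : Γ ⧸ D) := by
      intro a b hab hb he
      rw [QuotientGroup.eq, show (l ^ a)⁻¹ * l ^ b = l ^ (b - a) by
        rw [inv_mul_eq_iff_eq_mul, ← pow_add, Nat.add_sub_cancel' hab.le]] at he
      have hc : Nat.Coprime (b - a) p :=
        ((Nat.Prime.coprime_iff_not_dvd hp).2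
          fun hd => absurd (Nat.le_of_dvd (by omega) hd) (by omega)).symm
      obtain ⟨m, hm⟩ := exists_pow_eq_self_of_coprime (hc.coprime_dvd_right (orderOf_dvd_of_pow_eq_one hl))
      exact hn (hm ▸ pow_mem he m)
    intro a b he
    rcases Nat.lt_trichotomy (a : ℕ) b with h | h | h
    · exact absurd he (key _ _ h b.2)
    · exact Fin.ext h
    · exact absurd he.symm (key _ _ h a.2)
  have := Nat.card_le_card_of_injective f hf
  rw [Nat.card_fin, ← Subgroup.index_eq_card] at this
  omega

/-- A subgroup of index prime to `p` contains conjugates of every `p`-subgroup. -/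
theorem exists_conj_le {p : ℕ} [Fact p.Prime] (H : Subgroup Γ) (hH : ¬ p ∣ H.index) (Q : Subgroup Γ)
    (hQ : IsPGroup p Q) : ∃ g : Γ, ∀ x ∈ Q, g * x * g⁻¹ ∈ H := by
  obtain ⟨T, hT⟩ := hQ.exists_le_sylow
  let S : Sylow p ↥H := Classical.arbitrary _
  let M : Subgroup Γ := (S : Subgroup ↥H).map H.subtype
  have hM : Nat.card M = p ^ (Nat.card Γ).factorization p := by
    rw [Nat.card_congr (Subgroup.equivMapOfInjective _ _ H.subtype_injective).toEquiv.symm,
      Sylow.card_eq_multiplicity, ← H.card_mul_index,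
      Nat.factorization_mul Nat.card_pos.ne' Subgroup.index_ne_zero_of_finite, Finsupp.add_apply,
      Nat.factorization_eq_zero_of_not_dvd hH, add_zero]
  obtain ⟨g, hg⟩ := MulAction.exists_smul_eq Γ T (Sylow.ofCard M hM)
  refine ⟨g, fun x hx => ?_⟩
  have h1 : g * x * g⁻¹ ∈ ((g • T : Sylow p Γ) : Subgroup Γ) := by
    rw [← SetLike.mem_coe]
    show g * x * g⁻¹ ∈ ((g • T : Sylow p Γ) : Set Γ)
    rw [Sylow.coe_smul]
    exact ⟨x, hT hx, rfl⟩
  rw [hg] at h1
  obtain ⟨y, -, hy⟩ := (h1 : g * x * g⁻¹ ∈ M)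
  exact hy ▸ y.2

end General

/-! ### The class -/

theorem evalW_inv (w : List ℕ) (hw : ∀ s ∈ w, s < 5) :
    evalW letter (w.reverse.map fun s => Nat.add s 5) = (evalW letter w)⁻¹ := by
  have hinv : ∀ s < 5, letter (Nat.add s 5) = (letter s)⁻¹ := fun s hs => by
    have h := inv_ok
    simp only [invB, Bool.and_eq_true, allBelow_eq_true] at h
    have h2 := eqW_spec (h.1.1 s hs).1
    rw [evalW, evalW, List.map_cons, List.map_cons, List.map_nil, List.prod_cons, List.prod_cons,
      List.prod_nil, mul_one] at h2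
    exact eq_inv_of_mul_eq_one_right h2
  induction w with
  | nil => simp [evalW]
  | cons s w ih =>
    rw [List.reverse_cons, List.map_append, evalW_append,
      ih (fun t ht => hw t (List.mem_cons_of_mem _ ht)), evalW_cons, mul_inv_rev,
      ← hinv s (hw s (by simp))]
    simp [evalW]

theorem zi_eq : letter lZi = (letter lZ)⁻¹ := by
  have h := inv_ok
  simp only [invB, Bool.and_eq_true] at h
  have h2 := eqW_spec h.1.2
  rw [evalW, evalW, List.map_cons, List.map_cons, List.map_nil, List.prod_cons, List.prod_cons,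
    List.prod_nil, mul_one] at h2
  exact eq_inv_of_mul_eq_one_right h2

/-- The conjugator of a member. -/
noncomputable def cEl (i : ℕ) : ↥grp := evalW letter (conjW.get [] i)

/-- A member of the class. -/
noncomputable def zEl (i : ℕ) : ↥grp := cEl i * letter lZ * (cEl i)⁻¹

theorem conjLet {i : ℕ} (hi : i < 2080) : ∀ s ∈ conjW.get [] i, s < 5 := fun s hs =>
  Nat.blt_eq.mp (allB_spec (allBelow_eq_true.mp conjLet_ok i hi) s hs)

theorem zW_zero {i : ℕ} (hi : i < 2080) : evalW letter (zW i 0) = zEl i := by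
  rw [zW, evalW_append, evalW_cons, evalW_inv _ (conjLet hi), zLet, if_pos rfl, ← mul_assoc]
  rfl

theorem zW_one {i : ℕ} (hi : i < 2080) {e : ℕ} (he : e ≠ 0) :
    evalW letter (zW i e) = (zEl i)⁻¹ := by
  rw [zW, evalW_append, evalW_cons, evalW_inv _ (conjLet hi), zLet, if_neg he, zi_eq, ← mul_assoc,
    zEl, mul_inv_rev, mul_inv_rev, inv_inv, ← mul_assoc]
  rfl

theorem conjW_zero : conjW.get [] 0 = [] := by decide +kernel

theorem zEl_zero : zEl 0 = letter lZ := by
  simp [zEl, cEl, conjW_zero, evalW]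

/-- A member or the inverse of a member. -/
def IsMember (x : ↥grp) : Prop := ∃ i < 2080, x = zEl i ∨ x = (zEl i)⁻¹

theorem isMember_inv {x : ↥grp} (h : IsMember x) : IsMember x⁻¹ := by
  obtain ⟨i, hi, rfl | rfl⟩ := h
  exacts [⟨i, hi, Or.inr rfl⟩, ⟨i, hi, Or.inl (inv_inv _)⟩]

theorem member_step {s : ℕ} (hs : s < 5) {i : ℕ} (hi : i < 2080) :
    IsMember (letter s * zEl i * (letter s)⁻¹) := by
  have h := allBelow_eq_true.mp (allBelow_eq_true.mp class_ok i hi) s hs
  rw [forceN_eq, Bool.and_eq_true, Nat.blt_eq] at h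
  have he := eqW_spec h.2
  rw [evalW_cons, evalW_append, zW_zero hi] at he
  simp only [evalW, List.map_cons, List.map_nil, List.prod_cons, List.prod_nil, mul_one] at he
  refine ⟨_, h.1, ?_⟩
  by_cases hc : Nat.mod ((classTab.get [] i).getD s 0) 2 = 0
  · left
    rw [mul_inv_eq_iff_eq_mul, he, hc, ← zW_zero h.1]
    rfl
  · right
    rw [mul_inv_eq_iff_eq_mul, he, ← zW_one h.1 hc]
    rfl

theorem member_conj_z0 (g : ↥grp) : IsMember (g * letter lZ * g⁻¹) := by
  induction g using grp_induction with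
  | h1 => exact ⟨0, by norm_num, Or.inl (by simp [zEl_zero])⟩
  | hm s hs g ih =>
    have e : letter s * g * letter lZ * (letter s * g)⁻¹ =
        letter s * (g * letter lZ * g⁻¹) * (letter s)⁻¹ := by group
    rw [e]
    obtain ⟨i, hi, h | h⟩ := ih
    · rw [h]; exact member_step hs hi
    · rw [h, show letter s * (zEl i)⁻¹ * (letter s)⁻¹ = (letter s * zEl i * (letter s)⁻¹)⁻¹ by group]
      exact isMember_inv (member_step hs hi)

theorem member_conj (g : ↥grp) {x : ↥grp} (hx : IsMember x) : IsMember (g * x * g⁻¹) := by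
  obtain ⟨i, hi, h | h⟩ := hx
  · rw [h, zEl, show g * (cEl i * letter lZ * (cEl i)⁻¹) * g⁻¹ =
      (g * cEl i) * letter lZ * (g * cEl i)⁻¹ by group]
    exact member_conj_z0 _
  · rw [h, zEl, show g * (cEl i * letter lZ * (cEl i)⁻¹)⁻¹ * g⁻¹ =
      ((g * cEl i) * letter lZ * (g * cEl i)⁻¹)⁻¹ by group]
    exact isMember_inv (member_conj_z0 _)

theorem byKey_lt {t : ℕ} (ht : t < 2080) : byKey.get 0 t < 2080 := by
  have h := allBelow_eq_true.mp key_ok t ht
  rw [keyB, Bool.and_eq_true, Nat.blt_eq] at h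
  exact h.1

theorem keyOf_congr {i j : ℕ} (hi : i < 2080) (hj : j < 2080) (h : zEl i = zEl j)
    (hki : knownB (zW i 0) = true) (hkj : knownB (zW j 0) = true) : keyOf i = keyOf j := by
  have hv : ∀ b ∈ G2FourMult.base, appW 9 letterCodes (zW i 0) b =
      appW 9 letterCodes (zW j 0) b := fun b hb => by
    rw [← apply_word hki ⟨b, hlt b hb⟩, ← apply_word hkj ⟨b, hlt b hb⟩, zW_zero hi, zW_zero hj, h]
  unfold keyOf
  suffices ∀ (l : List ℕ), (∀ b ∈ l, appW 9 letterCodes (zW i 0) b =
      appW 9 letterCodes (zW j 0) b) → ∀ acc,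
      List.rec (motive := fun _ => ℕ → ℕ) (fun acc => acc)
        (fun b _ rec acc => forceN (appW 9 letterCodes (zW i 0) b) fun v =>
          rec (Nat.add (Nat.mul acc 512) v)) l acc =
      List.rec (motive := fun _ => ℕ → ℕ) (fun acc => acc)
        (fun b _ rec acc => forceN (appW 9 letterCodes (zW j 0) b) fun v =>
          rec (Nat.add (Nat.mul acc 512) v)) l acc from this _ hv 0
  intro l
  induction l with
  | nil => intro _ acc; rfl
  | cons b l ih =>
    intro hl acc
    show forceN _ _ = forceN _ _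
    rw [forceN_eq, forceN_eq, hl b (by simp)]
    exact ih (fun c hc => hl c (List.mem_cons_of_mem _ hc)) _

theorem zW_known {i : ℕ} (hi : i < 2080) : knownB (zW i 0) = true := by
  refine allB_true fun s hs => Nat.blt_eq.mpr ?_
  rw [zW, List.mem_append, List.mem_cons] at hs
  rcases hs with h | h | h
  · exact lt_of_lt_of_le (conjLet hi s h) (by decide)
  · rw [h]; decide
  · obtain ⟨a, ha, rfl⟩ := List.mem_map.1 h
    have := conjLet hi a (List.mem_reverse.1 ha)
    show a + 5 < 58
    omega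

theorem class_lower (i : ℕ) (hi : i < 2080) :
    2080 ≤ Nat.card (Set.range fun g : ↥grp => g * zEl i * g⁻¹) := by
  let f : Fin 2080 → Set.range fun g : ↥grp => g * zEl i * g⁻¹ := fun t =>
    ⟨zEl (byKey.get 0 t), cEl (byKey.get 0 t) * (cEl i)⁻¹, by simp only [zEl]; group⟩
  have hlt : ∀ d t, t + d + 1 < 2080 →
      keyOf (byKey.get 0 t) < keyOf (byKey.get 0 (t + d + 1)) := by
    have step : ∀ t, t + 1 < 2080 → keyOf (byKey.get 0 t) < keyOf (byKey.get 0 (t + 1)) := by
      intro t ht
      have h := allBelow_eq_true.mp key_ok t (by omega)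
      simp only [keyB, Bool.and_eq_true, Bool.or_eq_true, Nat.beq_eq, Nat.blt_eq] at h
      exact h.2.resolve_left (by omega)
    intro d
    induction d with
    | zero => intro t ht; exact step t ht
    | succ d ih =>
      intro t ht
      exact lt_trans (ih t (by omega)) (step (t + d + 1) (by omega))
  have hf : Function.Injective f := by
    intro a b he
    have he' : zEl (byKey.get 0 a) = zEl (byKey.get 0 b) := congrArg Subtype.val he
    have hk := keyOf_congr (byKey_lt a.2) (byKey_lt b.2) he' (zW_known (byKey_lt a.2))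
      (zW_known (byKey_lt b.2))
    rcases Nat.lt_trichotomy (a : ℕ) b with h | h | h
    · have := hlt (b - a - 1) a (by omega)
      rw [show (a : ℕ) + (b - a - 1) + 1 = b by omega] at this
      omega
    · exact Fin.ext h
    · have := hlt (a - b - 1) b (by omega)
      rw [show (b : ℕ) + (a - b - 1) + 1 = a by omega] at this
      omega
  simpa using Nat.card_le_card_of_injective f hf

/-! ### The group of order 25 -/

/-- The group generated by the two letters of order five. -/
noncomputable def p25 : Subgroup ↥grp := Subgroup.closure {letter lX, letter lY}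

theorem lX_mem : letter lX ∈ p25 := Subgroup.subset_closure (Set.mem_insert _ _)

theorem lY_mem : letter lY ∈ p25 := Subgroup.subset_closure (Set.mem_insert_of_mem _ rfl)

theorem pW_eval (a b : ℕ) : evalW letter (pW a b) = letter lX ^ a * letter lY ^ b := by
  rw [pW, evalW_append, evalW_replicate, evalW_replicate]

theorem pW_mem (a b : ℕ) : evalW letter (pW a b) ∈ p25 := by
  rw [pW_eval]; exact mul_mem (pow_mem lX_mem a) (pow_mem lY_mem b)

theorem p25_pgroup : IsPGroup 5 p25 := by
  have h := p25_ok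
  simp only [p25B, Bool.and_eq_true] at h
  obtain ⟨⟨⟨hx, hy⟩, hc⟩, -⟩ := h
  replace hx := eqW_spec hx
  replace hy := eqW_spec hy
  replace hc := eqW_spec hc
  rw [evalW_replicate] at hx hy
  simp only [evalW, List.map_cons, List.map_nil, List.prod_cons, List.prod_nil, mul_one] at hx hy hc
  intro g
  refine ⟨1, Subtype.ext ?_⟩
  rw [pow_one, Subgroup.coe_pow, Subgroup.coe_one]
  obtain ⟨g, hg⟩ := g
  have hC : Commute (letter lX) (letter lY) := hc
  suffices ∀ y ∈ p25, y ^ 5 = 1 ∧ Commute y (letter lX) ∧ Commute y (letter lY) from (this g hg).1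
  intro y hy'
  induction hy' using Subgroup.closure_induction with
  | mem y h =>
    rcases h with rfl | rfl
    exacts [⟨hx, Commute.refl _, hC⟩, ⟨hy, hC.symm, Commute.refl _⟩]
  | one => exact ⟨one_pow _, Commute.one_left _, Commute.one_left _⟩
  | mul a b ha hb iha ihb =>
    have hab : Commute a b := by
      clear ihb
      induction hb using Subgroup.closure_induction with
      | mem y h => rcases h with rfl | rfl; exacts [iha.2.1, iha.2.2]
      | one => exact Commute.one_right _
      | mul u v _ _ hu hv => exact hu.mul_right hv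
      | inv u _ hu => exact hu.inv_right
    exact ⟨by rw [hab.mul_pow, iha.1, ihb.1, one_mul], iha.2.1.mul_left ihb.2.1,
      iha.2.2.mul_left ihb.2.2⟩
  | inv a _ iha => exact ⟨by rw [inv_pow, iha.1, inv_one], iha.2.1.inv_left, iha.2.2.inv_left⟩

theorem lN_conj {m : ℕ} (hm : m < lN.length) {x : ↥grp} (hx : x ∈ p25) :
    letter (lN.getD m 0) * x * (letter (lN.getD m 0))⁻¹ ∈ p25 := by
  have h := p25_ok
  simp only [p25B, Bool.and_eq_true, allBelow_eq_true] at h
  have hi := inv_ok
  simp only [invB, Bool.and_eq_true, allBelow_eq_true] at hi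
  have h2 := eqW_spec (hi.2 m hm)
  simp only [evalW, List.map_cons, List.map_nil, List.prod_cons, List.prod_nil, mul_one] at h2
  have hn : letter (lNi.getD m 0) = (letter (lN.getD m 0))⁻¹ := eq_inv_of_mul_eq_one_right h2
  have hX := eqW_spec (h.2 m hm).1
  have hY := eqW_spec (h.2 m hm).2
  rw [evalW_cons, evalW_cons, evalW_cons, show evalW letter [] = 1 from rfl, mul_one, hn] at hX hY
  induction hx using Subgroup.closure_induction with
  | mem y hy =>
    rcases hy with rfl | rfl
    · rw [mul_assoc, hX]; exact pW_mem _ _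
    · rw [mul_assoc, hY]; exact pW_mem _ _
  | one => simp
  | mul u v _ _ hu hv =>
    rw [show letter (lN.getD m 0) * (u * v) * (letter (lN.getD m 0))⁻¹ =
      (letter (lN.getD m 0) * u * (letter (lN.getD m 0))⁻¹) *
        (letter (lN.getD m 0) * v * (letter (lN.getD m 0))⁻¹) by group]
    exact mul_mem hu hv
  | inv u _ hu =>
    rw [show letter (lN.getD m 0) * u⁻¹ * (letter (lN.getD m 0))⁻¹ =
      (letter (lN.getD m 0) * u * (letter (lN.getD m 0))⁻¹)⁻¹ by group]
    exact inv_mem hu

theorem nW_conj : ∀ w : List ℕ, (∀ m ∈ w, m < lN.length) → ∀ x ∈ p25,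
    evalW letter (nW w) * x * (evalW letter (nW w))⁻¹ ∈ p25
  | [], _, x, hx => by simpa [nW, evalW] using hx
  | m :: w, h, x, hx => by
    have e : nW (m :: w) = lN.getD m 0 :: nW w := rfl
    rw [e, evalW_cons, show letter (lN.getD m 0) * evalW letter (nW w) * x *
      (letter (lN.getD m 0) * evalW letter (nW w))⁻¹ = letter (lN.getD m 0) *
        (evalW letter (nW w) * x * (evalW letter (nW w))⁻¹) * (letter (lN.getD m 0))⁻¹ by group]
    exact lN_conj (h m (by simp)) (nW_conj w (fun k hk => h k (List.mem_cons_of_mem _ hk)) x hx)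

theorem niW_eval : ∀ w : List ℕ, (∀ m ∈ w, m < lN.length) →
    evalW letter (niW w) = (evalW letter (nW w))⁻¹
  | [], _ => by simp [niW, nW, evalW]
  | m :: w, h => by
    have hi := inv_ok
    simp only [invB, Bool.and_eq_true, allBelow_eq_true] at hi
    have h2 := eqW_spec (hi.2 m (h m (by simp)))
    simp only [evalW, List.map_cons, List.map_nil, List.prod_cons, List.prod_nil, mul_one] at h2
    have e : niW (m :: w) = niW w ++ [lNi.getD m 0] := by simp [niW]
    rw [e, evalW_append, niW_eval w (fun k hk => h k (List.mem_cons_of_mem _ hk)),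
      show nW (m :: w) = lN.getD m 0 :: nW w from rfl, evalW_cons (s := lN.getD m 0), mul_inv_rev,
      ← eq_inv_of_mul_eq_one_right h2]
    simp [evalW]

/-! ### The subgroup -/

theorem expand_mem {H : Subgroup ↥grp} (hP : p25 ≤ H) {z : List ℕ} (hz : evalW letter z ∈ H) :
    ∀ w : List ℕ, evalW letter (expand z w) ∈ H
  | [] => by simpa [expand, evalW] using one_mem H
  | k :: w => by
    have e : expand z (k :: w) =
        cond (Nat.beq k 0) [lX] (cond (Nat.beq k 1) [lY] z) ++ expand z w := rfl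
    rw [e, evalW_append]
    refine mul_mem ?_ (expand_mem hP hz w)
    rcases hc : Nat.beq k 0 with _ | _
    · rcases hc' : Nat.beq k 1 with _ | _
      · exact hz
      · simpa [evalW] using hP lY_mem
    · simpa [evalW] using hP lX_mem

theorem not_order13 {H : Subgroup ↥grp} (hH : H.index = 416) (hP : p25 ≤ H) {z w : List ℕ}
    (hz : evalW letter z ∈ H) : order13B z w ≠ true := by
  intro h
  simp only [order13B, Bool.and_eq_true] at h
  have h1 := eqW_spec h.1
  have h2 := neW_spec h.2
  have hflat : ∀ (n : ℕ) (l : List ℕ),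
      evalW letter (List.replicate n l).flatten = evalW letter l ^ n := by
    intro n l
    induction n with
    | zero => simp [evalW]
    | succ n ih => rw [List.replicate_succ, List.flatten_cons, evalW_append, ih, pow_succ']
  rw [hflat, show evalW letter [] = 1 from rfl] at h1
  rw [show evalW letter [] = 1 from rfl] at h2
  have : Fact (Nat.Prime 13) := ⟨by norm_num⟩
  have ho : orderOf (evalW letter (expand z w)) = 13 := orderOf_eq_prime h1 h2
  have hd := Subgroup.orderOf_dvd_natCard H (expand_mem hP hz w)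
  have hc := H.card_mul_index
  rw [hH, card_grp] at hc
  rw [ho] at hd
  omega

/-- The translate of a subgroup. -/
noncomputable def translate (H : Subgroup ↥grp) (n : ↥grp) : Subgroup ↥grp :=
  H.comap (MulAut.conj n).toMonoidHom

theorem mem_translate {H : Subgroup ↥grp} {n x : ↥grp} : x ∈ translate H n ↔ n * x * n⁻¹ ∈ H :=
  Iff.rfl

theorem index_translate (H : Subgroup ↥grp) (n : ↥grp) : (translate H n).index = H.index :=
  Subgroup.index_comap_of_surjective H (MulAut.conj n).surjective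

theorem rep_data {i : ℕ} (hi : i < 2080) (h : repConjB i = true) {H : Subgroup ↥grp}
    (hH : H.index = 416) (hP : p25 ≤ H) (hz : zEl i ∈ H) :
    repOf.get 0 i < 2080 ∧ ∃ n : ↥grp, (translate H n).index = 416 ∧ p25 ≤ translate H n ∧
      zEl (repOf.get 0 i) ∈ translate H n := by
  simp only [repConjB, Bool.and_eq_true, Bool.or_eq_true, Nat.blt_eq] at h
  obtain ⟨⟨hr, hw⟩, he⟩ := h
  have hw' : ∀ m ∈ nWord.get [] i, m < lN.length := fun m hm => Nat.blt_eq.mp (allB_spec hw m hm)
  refine ⟨hr, evalW letter (nW (nWord.get [] i)), (index_translate _ _).trans hH,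
    fun x hx => mem_translate.2 (hP (nW_conj _ hw' x hx)), mem_translate.2 ?_⟩
  have hz' : ∀ e, evalW letter (nW (nWord.get [] i) ++ zW (repOf.get 0 i) 0 ++ niW (nWord.get [] i)) =
      evalW letter (zW i e) → evalW letter (zW i e) ∈ H →
      evalW letter (nW (nWord.get [] i)) * zEl (repOf.get 0 i) *
        (evalW letter (nW (nWord.get [] i)))⁻¹ ∈ H := fun e h1 h2 => by
    rw [evalW_append, evalW_append, niW_eval _ hw', zW_zero hr] at h1
    rw [h1]; exact h2
  rcases he with h | h
  · exact hz' 0 (eqW_spec h) (by rw [zW_zero hi]; exact hz)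
  · exact hz' 1 (eqW_spec h) (by rw [zW_one hi one_ne_zero]; exact inv_mem hz)

theorem exc_pos {H : Subgroup ↥grp} (hH : H.index = 416) (hP : p25 ≤ H) {i : ℕ} (hi : i < 2080)
    (hz : zEl i ∈ H) : excOf.get 0 i ≠ 0 := by
  intro he
  have h := allBelow_eq_true.mp member_ok i hi
  rw [memberB, forceN_eq, show Nat.beq (excOf.get 0 i) 0 = true from Nat.beq_eq.mpr he,
    cond_true, Bool.and_eq_true] at h
  obtain ⟨p, hp, hpr⟩ := anyB_spec h.2
  obtain ⟨hr, n, hH', hP', hz'⟩ := rep_data hi h.1 hH hP hz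
  have hw := witness_ok
  simp only [witnessB, Bool.and_eq_true] at hw
  have := allB_spec hw.1 p hp
  rw [Nat.beq_eq] at hpr
  rw [hpr] at this
  exact not_order13 hH' hP' (by rw [zW_zero hr]; exact hz') this

theorem member_facts {i : ℕ} (hi : i < 2080) (he : excOf.get 0 i ≠ 0) :
    ((zEl i : Equiv.Perm (Fin 416)) 0 = 0) ∧ excOf.get 0 i < 21 ∧
    (∀ j, 0 < j → j < 20 → j + 1 ≠ excOf.get 0 i →
      ∃ m : Fin 416, orbAt m = j ∧ (zEl i : Equiv.Perm (Fin 416)) m ≠ m) ∧
    (excOf.get 0 i ≠ 1 → repConjB i = true ∧ ∃ p ∈ centWit, p.1 = repOf.get 0 i) := by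
  have h := allBelow_eq_true.mp member_ok i hi
  rw [memberB, forceN_eq, show Nat.beq (excOf.get 0 i) 0 = false from
      Bool.eq_false_iff.mpr fun h => he (Nat.beq_eq.mp h), cond_false] at h
  simp only [Bool.and_eq_true, Bool.or_eq_true, allBelow_eq_true, Nat.beq_eq, Nat.blt_eq] at h
  obtain ⟨⟨⟨⟨h0, -⟩, h21⟩, hmov⟩, hrep⟩ := h
  refine ⟨Fin.ext ?_, h21, fun j hj0 hj hje => ?_, fun h1 => ?_⟩
  · have := apply_word (zW_known hi) (0 : Fin 416)
    rw [zW_zero hi] at this
    rw [this]
    exact h0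
  · rcases hmov j hj with (h | h) | h
    · omega
    · exact absurd h hje
    · rw [forceN_eq] at h
      simp only [Bool.and_eq_true, Nat.blt_eq, Nat.beq_eq, Bool.not_eq_true'] at h
      refine ⟨⟨_, h.1.1⟩, h.1.2, fun e => ?_⟩
      have h2 := apply_word (zW_known hi) ⟨_, h.1.1⟩
      rw [zW_zero hi, e] at h2
      exact absurd (Nat.beq_eq.mpr h2.symm) (by rw [h.2]; simp)
  · obtain ⟨hr, hp⟩ := hrep.resolve_left h1
    obtain ⟨p, hp1, hp2⟩ := anyB_spec hp
    exact ⟨hr, p, hp1, Nat.beq_eq.mp hp2⟩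

theorem orb_facts (q : Fin 416) : orbAt q < 20 ∧ (orbAt q = 0 → q = 0) ∧
    ∀ m : Fin 416, orbAt m = orbAt q → ∃ p ∈ p25, (p : Equiv.Perm (Fin 416)) q = m := by
  have key : ∀ q : Fin 416, orbAt q < 20 ∧ (orbAt q = 0 → q = 0) ∧
      ∃ p ∈ p25, ∃ r : Fin 416, (r : ℕ) = orbRoot.getD (orbAt q) 0 ∧
        (p : Equiv.Perm (Fin 416)) r = q := by
    intro q
    have h := allBelow_eq_true.mp orb_ok q q.2
    simp only [forceN_eq, Bool.and_eq_true, Bool.or_eq_true, Bool.not_eq_true', Nat.blt_eq,
      Nat.beq_eq] at h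
    obtain ⟨⟨⟨⟨hj, hr⟩, he⟩, hk⟩, h0⟩ := h
    refine ⟨hj, fun hq => Fin.ext ?_, _, pW_mem _ _, ⟨_, hr⟩, rfl,
      Fin.ext ((apply_word hk _).trans he)⟩
    exact h0.resolve_left fun h => by rw [Nat.beq_eq.mpr hq] at h; simp at h
  refine ⟨(key q).1, (key q).2.1, fun m hm => ?_⟩
  obtain ⟨-, -, p, hp, r, hr, hpr⟩ := key q
  obtain ⟨-, -, p', hp', r', hr', hpr'⟩ := key m
  refine ⟨p' * p⁻¹, mul_mem hp' (inv_mem hp), ?_⟩
  have hrr : r' = r := Fin.ext (by rw [hr, hr', hm])
  rw [Subgroup.coe_mul, Equiv.Perm.mul_apply, Subgroup.coe_inv, ← hpr,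
    show (p : Equiv.Perm (Fin 416))⁻¹ ((p : Equiv.Perm (Fin 416)) r) = r from
      Equiv.Perm.inv_eq_iff_eq.2 rfl, ← hrr, hpr']

theorem exists_member_mem {H : Subgroup ↥grp} (hH : H.index = 416) :
    ∃ i < 2080, zEl i ∈ H := by
  have : Fact (Nat.Prime 3) := ⟨by norm_num⟩
  have hz : IsPGroup 3 (Subgroup.zpowers (letter lZ)) := by
    refine IsPGroup.of_card (n := 1) ?_
    rw [Nat.card_zpowers, pow_one]
    refine orderOf_eq_prime ?_ ?_
    · have h : eqW [lZ, lZ, lZ] [] = true := by decide +kernel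
      have := eqW_spec h
      simpa [evalW, pow_succ, mul_assoc] using this
    · have h : neW [lZ] [] = true := by decide +kernel
      have := neW_spec h
      simpa [evalW] using this
  obtain ⟨g, hg⟩ := exists_conj_le H (by rw [hH]; norm_num) _ hz
  obtain ⟨i, hi, h | h⟩ := member_conj_z0 g
  · exact ⟨i, hi, h ▸ hg _ (Subgroup.mem_zpowers _)⟩
  · refine ⟨i, hi, inv_mem_iff.1 ?_⟩
    exact h ▸ hg _ (Subgroup.mem_zpowers _)

theorem fixed_by_members {H : Subgroup ↥grp} (hH : H.index = 416) (hP : p25 ≤ H) {i : ℕ}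
    (hi : i < 2080) (hz : zEl i ∈ H) {h : ↥grp} (hh : h ∈ H) :
    (zEl i : Equiv.Perm (Fin 416)) ((h : Equiv.Perm (Fin 416)) 0) =
      (h : Equiv.Perm (Fin 416)) 0 := by
  have hfix : ∀ x ∈ H, IsMember x → (x : Equiv.Perm (Fin 416)) 0 = 0 := by
    rintro x hx ⟨j, hj, rfl | rfl⟩
    · exact (member_facts hj (exc_pos hH hP hj hx)).1
    · rw [Subgroup.coe_inv, Equiv.Perm.inv_eq_iff_eq]
      exact (member_facts hj (exc_pos hH hP hj (inv_mem_iff.1 hx))).1.symm
  have h1 := hfix (h⁻¹ * zEl i * h) (mul_mem (mul_mem (inv_mem hh) hz) hh) (by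
    simpa using member_conj h⁻¹ (x := zEl i) ⟨i, hi, Or.inl rfl⟩)
  rw [Subgroup.coe_mul, Subgroup.coe_mul, Subgroup.coe_inv, Equiv.Perm.mul_apply,
    Equiv.Perm.mul_apply, Equiv.Perm.inv_eq_iff_eq] at h1
  exact h1

theorem exc_count_aux (e N : ℕ) (h10 : excCount e N ≤ 10) :
    Nat.card {x : ↥grp // ∃ i < N, excOf.get 0 i = e ∧ (x = zEl i ∨ x = (zEl i)⁻¹)} ≤ 20 := by
  classical
  have hcount : ∀ n, ((Finset.range n).filter fun i => excOf.get 0 i = e).card = excCount e n := by
    intro n
    induction n with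
    | zero => rfl
    | succ n ih =>
      have es : excCount e (n + 1) =
          cond (Nat.beq (excOf.get 0 n) e) (Nat.succ (excCount e n)) (excCount e n) := rfl
      rw [es, Finset.range_add_one, Finset.filter_insert, ← ih]
      by_cases h : excOf.get 0 n = e
      · rw [if_pos h, Finset.card_insert_of_notMem (by simp), Nat.beq_eq.mpr h]; rfl
      · rw [if_neg h, Bool.eq_false_iff.mpr fun h' => h (Nat.beq_eq.mp h')]; rfl
  rw [← hcount] at h10
  have hT : ((((Finset.range N).filter fun i => excOf.get 0 i = e).image zEl) ∪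
      (((Finset.range N).filter fun i => excOf.get 0 i = e).image fun i => (zEl i)⁻¹)).card ≤ 20 :=
    (Finset.card_union_le _ _).trans
      ((Nat.add_le_add (Finset.card_image_le.trans h10) (Finset.card_image_le.trans h10)).trans
        (le_of_eq rfl))
  refine le_trans ?_ hT
  rw [← Nat.card_eq_finsetCard]
  refine Nat.card_le_card_of_injective (fun x => ⟨x.1, ?_⟩) fun a b h =>
    Subtype.ext (congrArg Subtype.val h :)
  obtain ⟨i, hi, hie, h⟩ := x.2
  have hS : i ∈ (Finset.range N).filter fun i => excOf.get 0 i = e :=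
    Finset.mem_filter.2 ⟨Finset.mem_range.2 hi, hie⟩
  rcases h with h | h
  · exact Finset.mem_union_left _ (Finset.mem_image.2 ⟨i, hS, h.symm⟩)
  · exact Finset.mem_union_right _ (Finset.mem_image.2 ⟨i, hS, h.symm⟩)

theorem exc_count {e : ℕ} (he : 2 ≤ e) (he' : e < 21) :
    Nat.card {x : ↥grp // ∃ i < 2080, excOf.get 0 i = e ∧ (x = zEl i ∨ x = (zEl i)⁻¹)} ≤ 20 := by
  have h10 := allBelow_eq_true.mp count_ok e he'
  rw [Bool.or_eq_true, Nat.blt_eq, Nat.ble_eq] at h10
  exact exc_count_aux e 2080 (h10.resolve_left (Nat.not_lt.2 he))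

/-- A subgroup of index 416 containing the group of order 25 fixes the point `0`. -/
theorem fix_zero {H : Subgroup ↥grp} (hH : H.index = 416) (hP : p25 ≤ H) {h : ↥grp} (hh : h ∈ H) :
    (h : Equiv.Perm (Fin 416)) 0 = 0 := by
  by_contra hne
  set q := (h : Equiv.Perm (Fin 416)) 0 with hq
  obtain ⟨hj, hj0, hjt⟩ := orb_facts q
  have hjpos : 0 < orbAt q := Nat.pos_of_ne_zero fun h0 => hne (hj0 h0)
  -- all members in `H` share the exceptional orbit
  have hexc : ∀ i < 2080, zEl i ∈ H → excOf.get 0 i = orbAt q + 1 := by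
    intro i hi hz
    by_contra hie
    obtain ⟨m, hm, hmove⟩ := (member_facts hi (exc_pos hH hP hi hz)).2.2.1 (orbAt q) hjpos hj
      (fun e => hie e.symm)
    obtain ⟨p, hp, hpq⟩ := hjt m hm
    apply hmove
    have := fixed_by_members hH hP hi hz (mul_mem (hP hp) hh)
    rwa [Subgroup.coe_mul, Equiv.Perm.mul_apply, ← hq, hpq] at this
  obtain ⟨i, hi, hz⟩ := exists_member_mem hH
  have he : excOf.get 0 i ≠ 0 := exc_pos hH hP hi hz
  have he1 : excOf.get 0 i ≠ 1 := by rw [hexc i hi hz]; omega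
  obtain ⟨hrep, ⟨r, p, l, w⟩, hp, hpr⟩ := (member_facts hi he).2.2.2 he1
  dsimp only at hpr
  obtain ⟨hr, n, hH', hP', hz'⟩ := rep_data hi hrep hH hP hz
  -- the class of the representative in the translate is small
  set H' := translate H n
  set z := zEl (repOf.get 0 i)
  have hsmall : Nat.card (Set.range fun g : ↥H' => g * (⟨z, hz'⟩ : ↥H') * g⁻¹) ≤ 20 := by
    refine le_trans ?_ (exc_count (e := orbAt q + 1) (by omega) (by omega))
    refine Nat.card_le_card_of_injective (fun x => ⟨n * ((x.1 : ↥H') : ↥grp) * n⁻¹, ?_⟩)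
      fun a b h => Subtype.ext (Subtype.ext (mul_left_cancel (mul_right_cancel (congrArg Subtype.val h :))))
    obtain ⟨g, hg⟩ := x.2
    have hmem : n * ((x.1 : ↥H') : ↥grp) * n⁻¹ ∈ H := mem_translate.1 x.1.2
    have hmb : IsMember (n * ((x.1 : ↥H') : ↥grp) * n⁻¹) := by
      rw [← hg]
      simp only [Subgroup.coe_mul, Subgroup.coe_inv]
      exact member_conj n (member_conj _ ⟨_, hr, Or.inl rfl⟩)
    obtain ⟨k, hk, hkx⟩ := hmb
    refine ⟨k, hk, hexc k hk ?_, hkx⟩
    rcases hkx with h | h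
    · exact h ▸ hmem
    · exact inv_mem_iff.1 (h ▸ hmem)
  have hbig := class_lower (repOf.get 0 i) hr
  set C := Subgroup.centralizer ({z} : Set ↥grp) with hC
  have hd : Nat.card (Subgroup.centralizer ({(⟨z, hz'⟩ : ↥H')} : Set ↥H')) =
      Nat.card ↥(H'.subgroupOf C) := by
    refine Nat.card_congr
      ⟨fun x => ⟨⟨(x.1 : ↥grp), Subgroup.mem_centralizer_singleton_iff.2
          (congrArg Subtype.val (Subgroup.mem_centralizer_singleton_iff.1 x.2))⟩,
          Subgroup.mem_subgroupOf.2 x.1.2⟩,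
        fun y => ⟨⟨(y.1 : ↥grp), Subgroup.mem_subgroupOf.1 y.2⟩,
          Subgroup.mem_centralizer_singleton_iff.2 (Subtype.ext
            (Subgroup.mem_centralizer_singleton_iff.1 y.1.2))⟩,
        fun _ => rfl, fun _ => rfl⟩
  have e1 := card_conjugates_mul (⟨z, hz'⟩ : ↥H')
  have e2 := card_conjugates_mul z
  have e3 := (H'.subgroupOf C).card_mul_index
  have e4 := H'.card_mul_index
  rw [hd] at e1
  rw [hH', card_grp] at e4
  rw [card_grp] at e2
  have hidx : (H'.subgroupOf C).index < 5 := by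
    have hDpos : 0 < Nat.card ↥(H'.subgroupOf C) := Nat.card_pos
    have h6 : 30240 ≤ Nat.card ↥(H'.subgroupOf C) := by
      nlinarith [Nat.mul_le_mul_right (Nat.card ↥(H'.subgroupOf C)) hsmall]
    have h7 : Nat.card ↥C ≤ 120960 := by
      nlinarith [Nat.mul_le_mul_right (Nat.card ↥C) hbig]
    by_contra hge
    nlinarith [Nat.mul_le_mul h6 (Nat.le_of_not_lt hge)]
  have hw := witness_ok
  simp only [witnessB, Bool.and_eq_true] at hw
  have hcent := allB_spec hw.2 _ hp
  simp only [centB, Bool.and_eq_true, Bool.or_eq_true, Nat.beq_eq] at hcent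
  obtain ⟨⟨⟨hp57, hlp⟩, hlc⟩, h13⟩ := hcent
  replace hlp := eqW_spec hlp
  replace hlc := eqW_spec hlc
  rw [evalW_replicate, show evalW letter [] = 1 from rfl] at hlp
  rw [hpr, evalW_cons, evalW_append, zW_zero hr] at hlc
  simp only [evalW, List.map_cons, List.map_nil, List.prod_cons, List.prod_nil, mul_one] at hlc
  have hlC : letter l ∈ C := Subgroup.mem_centralizer_singleton_iff.2 hlc
  have hpp : p.Prime := by rcases hp57 with rfl | rfl <;> norm_num
  have hp5 : 5 ≤ p := by rcases hp57 with rfl | rfl <;> norm_num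
  have hin := mem_of_index_lt (H'.subgroupOf C) (l := ⟨letter l, hlC⟩) hpp (Subtype.ext hlp)
    (lt_of_lt_of_le hidx hp5)
  exact not_order13 hH' hP' (z := [l]) (by simpa [evalW] using Subgroup.mem_subgroupOf.1 hin) h13

/-- Every subgroup of index 416 is the stabiliser of a point, given that the stabilisers have this
index. -/
theorem exists_fixed_point (H : Subgroup ↥grp) (hH : H.index = 416) :
    ∃ q : Fin 416, ∀ h ∈ H, (h : Equiv.Perm (Fin 416)) q = q := by
  have : Fact (Nat.Prime 5) := ⟨by norm_num⟩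
  obtain ⟨g, hg⟩ := exists_conj_le H (by rw [hH]; norm_num) p25 p25_pgroup
  have hP : p25 ≤ translate H g := fun x hx => mem_translate.2 (hg x hx)
  refine ⟨(g : Equiv.Perm (Fin 416)) 0, fun h hh => ?_⟩
  have := fix_zero ((index_translate H g).trans hH) hP (h := g⁻¹ * h * g) (mem_translate.2 (by
    rwa [show g * (g⁻¹ * h * g) * g⁻¹ = h by group]))
  rw [Subgroup.coe_mul, Subgroup.coe_mul, Subgroup.coe_inv, Equiv.Perm.mul_apply,
    Equiv.Perm.mul_apply, Equiv.Perm.inv_eq_iff_eq] at this
  exact this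

end Cfsg.Agent.SuzRankThree
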