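import Cfsg.Agent.SuzRankThree.GraphCheck
import Cfsg.Agent.SuzRankThree.IndexSub

/-!
# The graph on 416 points: suborbits, and normality of `G2(4)` among its automorphisms
-/

set_option autoImplicit false
set_option maxRecDepth 100000

namespace Cfsg.Agent.SuzRankThree

open Cfsg.Agent.Compute Cfsg.Agent.StemCert

attribute [local irreducible] letterCodes letterWords nbMask fullMask tree416 tree100 tree315
  stageMask stageMaskAlt chainTree0 chainTree1 chainTree2 chainTree3 chainTree4 chainTree5 altTree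
  chainTreeAlt0 chainTreeAlt1 chainTreeAlt2 autBase autBaseAlt stabChain stabChainAlt stabJ

/-- The image of a point. -/
def ap (g : ↥grp) (x : Fin 416) : Fin 416 := (g : Equiv.Perm (Fin 416)) x

theorem ap_mul (g h : ↥grp) (x : Fin 416) : ap (g * h) x = ap g (ap h x) := rfl

theorem ap_one (x : Fin 416) : ap 1 x = x := rfl

theorem ap_inv_ap (g : ↥grp) (x : Fin 416) : ap g⁻¹ (ap g x) = x := by
  rw [← ap_mul, inv_mul_cancel, ap_one]

theorem ap_ap_inv (g : ↥grp) (x : Fin 416) : ap g (ap g⁻¹ x) = x := by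
  rw [← ap_mul, mul_inv_cancel, ap_one]

theorem ap_letter {l : ℕ} (hl : knownB [l] = true) (x : Fin 416) :
    (ap (letter l) x : ℕ) = appW 9 letterCodes [l] x := by
  have := apply_word hl x
  simpa [evalW, ap] using this

/-- Adjacency. -/
def adjG (i x : Fin 416) : Prop := (nbMask.get 0 (i : ℕ)).testBit (x : ℕ) = true

theorem adjStep {s : ℕ} (hs : s < 5) (i : Fin 416) :
    nbMask.get 0 (i : ℕ) ≤ fullMask ∧ ∀ x : Fin 416, adjG i x → adjG (ap (letter s) i) (ap (letter s) x) := by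
  have hk : knownB [s] = true := allB_true fun t ht => Nat.blt_eq.mpr (by
    rw [List.mem_singleton.1 ht]; exact lt_of_lt_of_le hs (by decide))
  have h : adjStepB s i = true := by
    interval_cases s
    exacts [allBelow_eq_true.mp adj0_ok i i.2, allBelow_eq_true.mp adj1_ok i i.2,
      allBelow_eq_true.mp adj2_ok i i.2, allBelow_eq_true.mp adj3_ok i i.2,
      allBelow_eq_true.mp adj4_ok i i.2]
  simp only [adjStepB, forceN_eq, Bool.and_eq_true, allBelow_eq_true, Nat.ble_eq, Bool.or_eq_true,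
    Bool.not_eq_true'] at h
  refine ⟨h.1, fun x hx => ?_⟩
  rcases h.2 x x.2 with h' | h'
  · unfold adjG at hx
    rw [hx] at h'
    exact absurd h' (by simp)
  · unfold adjG
    rw [ap_letter hk, ap_letter hk]
    exact h'

theorem adjG_forward (g : ↥grp) : ∀ {i x : Fin 416}, adjG i x → adjG (ap g i) (ap g x) := by
  induction g using grp_induction with
  | h1 => exact fun h => h
  | hm s hs g ih => exact fun h => (adjStep hs _).2 _ (ih h)

theorem adjG_smul (g : ↥grp) (i x : Fin 416) : adjG (ap g i) (ap g x) ↔ adjG i x :=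
  ⟨fun h => by
    have := adjG_forward g⁻¹ h
    rwa [ap_inv_ap, ap_inv_ap] at this, adjG_forward g⟩

/-! ### Masks -/

theorem testBit_listMask : ∀ (bs : List ℕ) (x : ℕ), (listMask bs).testBit x = true ↔ x ∈ bs
  | [], x => by simp [listMask]
  | b :: bs, x => by
    show (Nat.lor (Nat.shiftLeft 1 b) (listMask bs)).testBit x = true ↔ _
    rw [show Nat.lor (Nat.shiftLeft 1 b) (listMask bs) = 2 ^ b ||| listMask bs from by
      rw [← Nat.one_shiftLeft]; rfl, Nat.testBit_or, Bool.or_eq_true, Nat.testBit_two_pow,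
      testBit_listMask bs x, decide_eq_true_eq, List.mem_cons]
    constructor <;> rintro (h | h) <;> simp [h]

theorem treeMask_eq (T : List (ℕ × ℕ × ℕ)) : treeMask T = listMask (T.map fun e => e.1) := by
  induction T with
  | nil => rfl
  | cons e T ih =>
    show Nat.lor (Nat.shiftLeft 1 e.1) (treeMask T) = _
    rw [ih]; rfl

theorem full_testBit {x : ℕ} : fullMask.testBit x = true ↔ x < 416 := by
  unfold fullMask
  rw [show Nat.sub (Nat.shiftLeft 1 416) 1 = 2 ^ 416 - 1 by rw [← Nat.one_shiftLeft]; rfl,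
    Nat.testBit_two_pow_sub_one, decide_eq_true_eq]

theorem commonMask_cons (b : ℕ) (bs : List ℕ) :
    commonMask (b :: bs) = nbMask.get 0 b &&& commonMask bs := rfl

theorem testBit_commonMask : ∀ (bs : List ℕ) (x : ℕ),
    (commonMask bs).testBit x = true ↔ x < 416 ∧ ∀ b ∈ bs, (nbMask.get 0 b).testBit x = true
  | [], x => by
    show fullMask.testBit x = true ↔ _
    simp [full_testBit]
  | b :: bs, x => by
    rw [commonMask_cons, Nat.testBit_and, Bool.and_eq_true, testBit_commonMask bs x]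
    simp only [List.mem_cons, forall_eq_or_imp]
    tauto

/-! ### Trees -/

theorem tree_reach {T : List (ℕ × ℕ × ℕ)} {ls : List ℕ} (h : treeB T ls = true)
    (S : Subgroup ↥grp) (hS : ∀ l ∈ ls, letter l ∈ S) :
    ∀ k < T.length, ∃ (r x : Fin 416), (r : ℕ) = treeRoot T ∧ (x : ℕ) = (T.getD k (0, 0, 0)).1 ∧
      ∃ g ∈ S, ap g r = x := by
  simp only [treeB, Bool.and_eq_true, Nat.blt_eq, allBelow_eq_true] at h
  intro k
  induction k using Nat.strong_induction_on with
  | _ k ih =>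
    intro hk
    obtain ⟨hlt, hrest⟩ := h.2 k hk
    simp only [Bool.or_eq_true, Bool.and_eq_true, Nat.beq_eq, Nat.blt_eq] at hrest
    rcases hrest with h0 | ⟨⟨⟨hp, hmem⟩, hkn⟩, he⟩
    · subst h0
      exact ⟨⟨_, hlt⟩, ⟨_, hlt⟩, rfl, rfl, 1, one_mem _, rfl⟩
    obtain ⟨r, y, hr, hy, g, hg, hgy⟩ := ih _ hp (by omega)
    obtain ⟨l, hl, hle⟩ := anyB_spec hmem
    rw [Nat.beq_eq] at hle
    refine ⟨r, ⟨_, hlt⟩, hr, rfl, letter (T.getD k (0, 0, 0)).2.2 * g,
      mul_mem (hle ▸ hS l hl) hg, Fin.ext ?_⟩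
    rw [ap_mul, hgy, ap_letter hkn, hy]
    exact he

theorem tree_move {T : List (ℕ × ℕ × ℕ)} {ls : List ℕ} (h : treeB T ls = true)
    (S : Subgroup ↥grp) (hS : ∀ l ∈ ls, letter l ∈ S) {x y : Fin 416}
    (hx : (treeMask T).testBit (x : ℕ) = true) (hy : (treeMask T).testBit (y : ℕ) = true) :
    ∃ g ∈ S, ap g x = y := by
  have key : ∀ z : Fin 416, (treeMask T).testBit (z : ℕ) = true →
      ∃ r : Fin 416, (r : ℕ) = treeRoot T ∧ ∃ g ∈ S, ap g r = z := by
    intro z hz
    rw [treeMask_eq, testBit_listMask, List.mem_map] at hz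
    obtain ⟨e, he, hez⟩ := hz
    obtain ⟨k, hk, rfl⟩ := List.getElem_of_mem he
    obtain ⟨r, w, hr, hw, g, hg, hgw⟩ := tree_reach h S hS k hk
    rw [List.getD_eq_getElem _ _ hk, hez] at hw
    exact ⟨r, hr, g, hg, by rw [hgw]; exact Fin.ext hw⟩
  obtain ⟨r, hr, g, hg, hgx⟩ := key x hx
  obtain ⟨r', hr', g', hg', hgy⟩ := key y hy
  obtain rfl : r = r' := Fin.ext (hr.trans hr'.symm)
  exact ⟨g' * g⁻¹, mul_mem hg' (inv_mem hg), by rw [ap_mul, ← hgx, ap_inv_ap, hgy]⟩

/-- The elements fixing all the listed points. -/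
def fixing (bs : List ℕ) : Subgroup ↥grp where
  carrier := {g | ∀ x : Fin 416, (x : ℕ) ∈ bs → ap g x = x}
  one_mem' := fun _ _ => rfl
  mul_mem' := fun {g h} hg hh x hx => by rw [ap_mul, hh x hx, hg x hx]
  inv_mem' := fun {g} hg x hx => by
    conv_lhs => rw [← hg x hx]
    rw [ap_inv_ap]

theorem fixB_spec {ls bs : List ℕ} (h : fixB ls bs = true) : ∀ l ∈ ls, letter l ∈ fixing bs := by
  intro l hl x hx
  have h' := allB_spec h l hl
  rw [Bool.and_eq_true] at h'
  have h2 := allB_spec h'.2 _ hx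
  rw [Bool.and_eq_true, Nat.beq_eq] at h2
  exact Fin.ext ((ap_letter h'.1 x).trans h2.2)

/-! ### Suborbits -/

theorem exists_ap_eq (x : Fin 416) : ∃ g : ↥grp, ap g 0 = x := by
  have h := suborbit_ok
  simp only [suborbitB, Bool.and_eq_true, Nat.beq_eq] at h
  have h1 : treeB tree416 (List.range 5) = true := h.1.1.2
  have h2 : treeMask tree416 = fullMask := h.1.2
  obtain ⟨g, -, hg⟩ := tree_move h1 ⊤ (fun _ _ => Subgroup.mem_top _) (x := 0) (y := x)
    (by rw [h2]; exact full_testBit.2 (Fin.is_lt _)) (by rw [h2]; exact full_testBit.2 x.2)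
  exact ⟨g, hg⟩

/-- The first suborbit. -/
noncomputable def subA : Finset (Fin 416) :=
  Finset.univ.filter fun x => (treeMask tree100).testBit (x : ℕ) = true

/-- The second suborbit. -/
noncomputable def subB : Finset (Fin 416) :=
  Finset.univ.filter fun x => (treeMask tree315).testBit (x : ℕ) = true

theorem subA_iff (x : Fin 416) : x ∈ subA ↔ adjG 0 x := by
  have h := suborbit_ok
  simp only [suborbitB, Bool.and_eq_true, Nat.beq_eq] at h
  have h1 : treeMask tree100 = nbMask.get 0 0 := h.1.1.1.1.1.1.1.2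
  simp [subA, adjG, h1]

theorem suborbit_facts :
    (∀ x : Fin 416, x = 0 ∨ x ∈ subA ∨ x ∈ subB) ∧ (0 : Fin 416) ∉ subA ∧ (0 : Fin 416) ∉ subB ∧
    Disjoint subA subB ∧
    (∀ x ∈ subA, ∀ y ∈ subA, ∃ g ∈ fixing [0], ap g x = y) ∧
    (∀ x ∈ subB, ∀ y ∈ subB, ∃ g ∈ fixing [0], ap g x = y) := by
  have h := suborbit_ok
  simp only [suborbitB, Bool.and_eq_true, Nat.beq_eq, Bool.not_eq_true'] at h
  obtain ⟨⟨⟨⟨⟨⟨⟨⟨⟨⟨hfix, hA⟩, hB⟩, -⟩, hcov⟩, h0A⟩, h0B⟩, hdisj⟩, -⟩, -⟩, -⟩ := h
  refine ⟨fun x => ?_, ?_, ?_, ?_, fun x hx y hy => ?_, fun x hx y hy => ?_⟩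
  · have hx := full_testBit.2 x.2
    rw [← hcov] at hx
    rw [show Nat.lor 1 (Nat.lor (treeMask tree100) (treeMask tree315)) =
      1 ||| (treeMask tree100 ||| treeMask tree315) from rfl, Nat.testBit_or, Nat.testBit_or] at hx
    simp only [Bool.or_eq_true] at hx
    rcases hx with h | h | h
    · left
      refine Fin.ext ?_
      rw [Nat.testBit_one_eq_true_iff_self_eq_zero] at h
      simpa using h
    · exact Or.inr (Or.inl (Finset.mem_filter.2 ⟨Finset.mem_univ _, h⟩))
    · exact Or.inr (Or.inr (Finset.mem_filter.2 ⟨Finset.mem_univ _, h⟩))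
  · simp [subA, h0A]
  · simp [subB, h0B]
  · rw [Finset.disjoint_left]
    intro x hx hy
    have h1 := congrArg (fun m => Nat.testBit m (x : ℕ)) hdisj
    simp only [show Nat.land (treeMask tree100) (treeMask tree315) =
      treeMask tree100 &&& treeMask tree315 from rfl, Nat.testBit_and, Nat.zero_testBit,
      (Finset.mem_filter.1 hx).2, (Finset.mem_filter.1 hy).2] at h1
    exact Bool.noConfusion h1
  · exact tree_move hA _ (fixB_spec hfix) (Finset.mem_filter.1 hx).2 (Finset.mem_filter.1 hy).2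
  · exact tree_move hB _ (fixB_spec hfix) (Finset.mem_filter.1 hx).2 (Finset.mem_filter.1 hy).2

theorem card_mask {m c : ℕ} (h : (List.range 416).countP (fun x => m.testBit x) = c) :
    (Finset.univ.filter fun x : Fin 416 => m.testBit (x : ℕ) = true).card = c := by
  rw [← h, List.countP_eq_length_filter, ← List.toFinset_card_of_nodup
    ((List.nodup_range).filter _), ← Finset.card_image_of_injective _ Fin.val_injective]
  congr 1
  ext x
  simp only [Finset.mem_image, Finset.mem_filter, Finset.mem_univ, true_and, List.mem_toFinset,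
    List.mem_filter, List.mem_range]
  exact ⟨fun ⟨a, ha, e⟩ => e ▸ ⟨a.2, ha⟩, fun ⟨hx, hb⟩ => ⟨⟨x, hx⟩, hb, rfl⟩⟩

theorem card_subA : subA.card = 100 := card_mask (by decide +kernel)

theorem card_subB : subB.card = 315 := card_mask (by decide +kernel)

/-- A set invariant under the stabiliser of `0` and avoiding it is a union of suborbits. -/
theorem invariant_cases (S : Finset (Fin 416)) (h0 : (0 : Fin 416) ∉ S)
    (hS : ∀ g ∈ fixing [0], ∀ x ∈ S, ap g x ∈ S) :
    (S.card = 0 ∨ S.card = 100 ∨ S.card = 315 ∨ S.card = 415) ∧ (S.card = 100 → S = subA) := by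
  obtain ⟨hcov, hA0, hB0, hdis, hAt, hBt⟩ := suborbit_facts
  have key : ∀ T : Finset (Fin 416), (∀ x ∈ T, ∀ y ∈ T, ∃ g ∈ fixing [0], ap g x = y) →
      T ⊆ S ∨ Disjoint T S := by
    intro T hT
    by_cases h : ∃ x ∈ T, x ∈ S
    · obtain ⟨x, hxT, hxS⟩ := h
      refine Or.inl fun y hy => ?_
      obtain ⟨g, hg, rfl⟩ := hT x hxT y hy
      exact hS g hg x hxS
    · refine Or.inr (Finset.disjoint_left.2 fun x hxT hxS => h ⟨x, hxT, hxS⟩)
  have hsub : S ⊆ subA ∪ subB := fun x hx => Finset.mem_union.2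
    ((hcov x).resolve_left fun e => h0 (e ▸ hx))
  rcases key subA hAt with hA | hA <;> rcases key subB hBt with hB | hB
  · have : S = subA ∪ subB := hsub.antisymm (Finset.union_subset hA hB)
    rw [this, Finset.card_union_of_disjoint hdis, card_subA, card_subB]
    omega
  · have : S = subA := Finset.Subset.antisymm (fun x hx => ((Finset.mem_union.1 (hsub hx)).resolve_right
      fun h => Finset.disjoint_left.1 hB h hx)) hA
    exact ⟨Or.inr (Or.inl (by rw [this, card_subA])), fun _ => this⟩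
  · have : S = subB := Finset.Subset.antisymm (fun x hx => ((Finset.mem_union.1 (hsub hx)).resolve_left
      fun h => Finset.disjoint_left.1 hA h hx)) hB
    rw [this, card_subB]
    omega
  · have : S = ∅ := Finset.eq_empty_of_forall_notMem fun x hx => by
      rcases Finset.mem_union.1 (hsub hx) with h | h
      exacts [Finset.disjoint_left.1 hA h hx, Finset.disjoint_left.1 hB h hx]
    rw [this, Finset.card_empty]
    omega

/-! ### Automorphisms -/

/-- A permutation preserving adjacency. -/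
def Pres (π : Equiv.Perm (Fin 416)) : Prop := ∀ i x, adjG (π i) (π x) ↔ adjG i x

theorem pres_grp (g : ↥grp) : Pres (g : Equiv.Perm (Fin 416)) := fun i x => adjG_smul g i x

theorem pres_mul {π σ : Equiv.Perm (Fin 416)} (h1 : Pres π) (h2 : Pres σ) : Pres (π * σ) :=
  fun i x => (h1 _ _).trans (h2 _ _)

theorem pres_inv {π : Equiv.Perm (Fin 416)} (h : Pres π) : Pres π⁻¹ := fun i x => by
  rw [← h]
  simp

/-- The listed points are fixed. -/
def FixL (π : Equiv.Perm (Fin 416)) (bs : List ℕ) : Prop := ∀ x : Fin 416, (x : ℕ) ∈ bs → π x = x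

theorem common_image {π : Equiv.Perm (Fin 416)} (h : Pres π) {bs : List ℕ} (hf : FixL π bs)
    (hb : ∀ b ∈ bs, b < 416) {x : Fin 416} (hx : (commonMask bs).testBit (x : ℕ) = true) :
    (commonMask bs).testBit (π x : ℕ) = true := by
  rw [testBit_commonMask] at hx ⊢
  refine ⟨Fin.is_lt _, fun b hbm => ?_⟩
  have h1 : adjG ⟨b, hb b hbm⟩ x := hx.2 b hbm
  have h2 := (h ⟨b, hb b hbm⟩ x).2 h1
  rwa [hf ⟨b, hb b hbm⟩ hbm] at h2

theorem reduce_tree {T : List (ℕ × ℕ × ℕ)} {ls bs : List ℕ} (hfix : fixB ls bs = true)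
    (hT : treeB T ls = true) {π : Equiv.Perm (Fin 416)} (h : Pres π) (hf : FixL π bs)
    (r : Fin 416) (hr : (r : ℕ) = treeRoot T) (hπ : (treeMask T).testBit (π r : ℕ) = true) :
    ∃ g : ↥grp, Pres ((g : Equiv.Perm (Fin 416)) * π) ∧
      FixL ((g : Equiv.Perm (Fin 416)) * π) bs ∧ ((g : Equiv.Perm (Fin 416)) * π) r = r := by
  have hroot : (treeMask T).testBit (r : ℕ) = true := by
    rw [treeMask_eq, testBit_listMask, hr, treeRoot, List.mem_map]
    have hlen : 0 < T.length := by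
      simp only [treeB, Bool.and_eq_true, Nat.blt_eq] at hT
      exact hT.1
    exact ⟨_, List.getElem_mem hlen, by rw [List.getD_eq_getElem _ _ hlen]⟩
  obtain ⟨g, hg, hgr⟩ := tree_move hT _ (fixB_spec hfix) hπ hroot
  refine ⟨g, pres_mul (pres_grp g) h, fun x hx => ?_, hgr⟩
  rw [Equiv.Perm.mul_apply, hf x hx]
  exact hg x hx

theorem reduce_level {T : List (ℕ × ℕ × ℕ)} {ls bs : List ℕ} {r : ℕ} {adjL excl : List ℕ}
    (hl : levelB T ls bs r (commonMask adjL) (listMask excl) = true)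
    (hsub : ∀ b ∈ adjL, b ∈ bs) (hadjlt : ∀ b ∈ adjL, b < 416) (hexcl : ∀ b ∈ excl, b ∈ bs)
    {π : Equiv.Perm (Fin 416)} (h : Pres π) (hf : FixL π bs) :
    ∃ g : ↥grp, Pres ((g : Equiv.Perm (Fin 416)) * π) ∧
      FixL ((g : Equiv.Perm (Fin 416)) * π) (bs ++ [r]) := by
  simp only [levelB, Bool.and_eq_true, Nat.beq_eq] at hl
  obtain ⟨⟨⟨hfix, hT⟩, hroot⟩, hm⟩ := hl
  have hT' := hT
  simp only [treeB, Bool.and_eq_true, Nat.blt_eq, allBelow_eq_true] at hT'
  have hrlt : treeRoot T < 416 := (hT'.2 0 hT'.1).1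
  have hmem : ∀ x : Fin 416, (treeMask T).testBit (x : ℕ) = true ↔
      (commonMask adjL).testBit (x : ℕ) = true ∧ (x : ℕ) ∉ excl := by
    intro x
    rw [← hm, show Nat.land (commonMask adjL) (Nat.xor fullMask (listMask excl)) =
      commonMask adjL &&& (fullMask ^^^ listMask excl) from rfl, Nat.testBit_and, Nat.testBit_xor,
      full_testBit.2 x.2, Bool.and_eq_true, ← testBit_listMask]
    simp
  have hr0 : (treeMask T).testBit (treeRoot T) = true := by
    rw [treeMask_eq, testBit_listMask, treeRoot, List.mem_map]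
    exact ⟨_, List.getElem_mem hT'.1, by rw [List.getD_eq_getElem _ _ hT'.1]⟩
  obtain ⟨hr1, hr2⟩ := (hmem ⟨_, hrlt⟩).1 hr0
  have hπ : (treeMask T).testBit (π ⟨_, hrlt⟩ : ℕ) = true := by
    refine (hmem _).2 ⟨common_image h (fun x hx => hf x (hsub _ hx)) hadjlt hr1, fun he => ?_⟩
    have h1 := hf _ (hexcl _ he)
    have h2 := π.injective h1
    exact hr2 (by rw [h2] at he; exact he)
  obtain ⟨g, h1, h2, h3⟩ := reduce_tree hfix hT h hf ⟨_, hrlt⟩ rfl hπ
  refine ⟨g, h1, fun x hx => ?_⟩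
  rcases List.mem_append.1 hx with hx | hx
  · exact h2 x hx
  · rw [List.mem_singleton] at hx
    obtain rfl : x = ⟨treeRoot T, hrlt⟩ := Fin.ext (hx.trans hroot.symm)
    exact h3

theorem stage_spec {S : List ℕ} {first : ℕ} (hS : stageB S first = true)
    {π : Equiv.Perm (Fin 416)} (h : Pres π)
    (hf : ∀ x : Fin 416, first.testBit (x : ℕ) = true → π x = x) : π = 1 := by
  simp only [stageB, Bool.and_eq_true, Nat.beq_eq, allBelow_eq_true] at hS
  obtain ⟨⟨h0, hlast⟩, hstep⟩ := hS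
  have key : ∀ k < S.length, ∀ x : Fin 416, (S.getD k 0).testBit (x : ℕ) = true → π x = x := by
    intro k
    induction k with
    | zero => intro _ x hx; exact hf x (by rw [← h0]; exact hx)
    | succ k ih =>
      intro hk x hx
      have hs := hstep (k + 1) hk
      simp only [forceN_eq, Bool.and_eq_true, Bool.or_eq_true, Nat.beq_eq, allBelow_eq_true,
        Bool.not_eq_true', show Nat.sub (k + 1) 1 = k from rfl] at hs
      obtain ⟨-, h1 | h1⟩ := hs
      · omega
      have hs' := hstep k (by omega)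
      simp only [forceN_eq, Bool.and_eq_true, Nat.beq_eq] at hs'
      have hfull := hs'.1
      rcases h1 x x.2 with (h2 | h2) | h2
      · rw [hx] at h2; exact absurd h2 (by simp)
      · exact ih (by omega) x h2
      · by_contra hne
        rcases h2 (π x : ℕ) (π x).2 with (h3 | h3) | h3
        · exact hne (π.injective (ih (by omega) (π x) h3))
        · exact hne (Fin.ext h3.symm)
        · have he : nbMask.get 0 (π x : ℕ) &&& S.getD k 0 = nbMask.get 0 (x : ℕ) &&& S.getD k 0 := by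
            refine Nat.eq_of_testBit_eq fun j => ?_
            rw [Nat.testBit_and, Nat.testBit_and]
            rcases hj : (S.getD k 0).testBit j with _ | _
            · simp
            · simp only [Bool.and_true]
              have hj416 : j < 416 := by
                rw [← full_testBit]
                have := congrArg (fun m => Nat.testBit m j) hfull
                simp only [show Nat.land (S.getD k 0) fullMask = S.getD k 0 &&& fullMask from rfl,
                  Nat.testBit_and, hj, Bool.true_and] at this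
                exact this
              have h4 := h x ⟨j, hj416⟩
              rw [ih (by omega) ⟨j, hj416⟩ hj] at h4
              exact Bool.eq_iff_iff.2 h4
          exact absurd (Nat.beq_eq.mpr he) (by
            show ¬ Nat.beq (Nat.land (nbMask.get 0 (π x : ℕ)) (S.getD k 0))
              (Nat.land (nbMask.get 0 (x : ℕ)) (S.getD k 0)) = true
            rw [h3]; simp)
  have hlen : 0 < S.length := by
    rcases S with _ | ⟨a, S⟩
    · simp only [List.getD_nil] at hlast
      have := full_testBit.2 (show 0 < 416 by norm_num)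
      rw [← hlast] at this
      simp at this
    · simp
  refine Equiv.ext fun x => ?_
  exact key (S.length - 1) (by omega) x (by
    rw [show S.length - 1 = Nat.sub S.length 1 from rfl, hlast]; exact full_testBit.2 x.2)

theorem mem_of_mul_mem {g : ↥grp} {π : Equiv.Perm (Fin 416)}
    (h : (g : Equiv.Perm (Fin 416)) * π ∈ grp) : π ∈ grp := by
  have := mul_mem (inv_mem g.2) h
  rwa [inv_mul_cancel_left] at this

theorem tail_spec {B : List ℕ} {C : List (List ℕ)} {T0 T1 T2 : List (ℕ × ℕ × ℕ)} {S : List ℕ}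
    (hB : tailB B C T0 T1 T2 S = true) {π : Equiv.Perm (Fin 416)} (h : Pres π)
    (hf : FixL π (B.take 4)) : π ∈ grp := by
  simp only [tailB, Bool.and_eq_true, Nat.beq_eq, Bool.not_eq_true'] at hB
  obtain ⟨⟨⟨⟨⟨⟨⟨⟨⟨hl0, hl1⟩, hl2⟩, hcom⟩, hlen⟩, hlt⟩, hn4⟩, hn5⟩, hn6⟩, hst⟩ := hB
  obtain ⟨b0, b1, b2, b3, b4, b5, b6, b7, rfl⟩ : ∃ b0 b1 b2 b3 b4 b5 b6 b7,
      B = [b0, b1, b2, b3, b4, b5, b6, b7] := by
    match B, hlen with
    | [b0, b1, b2, b3, b4, b5, b6, b7], _ => exact ⟨_, _, _, _, _, _, _, _, rfl⟩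
  simp only [List.take_succ_cons, List.take_zero, List.drop_succ_cons, List.drop_zero,
    List.getD_cons_succ, List.getD_cons_zero] at hl0 hl1 hl2 hcom hn4 hn5 hn6 hst hf
  have hb : ∀ b ∈ [b0, b1, b2, b3, b4, b5, b6, b7], b < 416 := fun b hb =>
    Nat.blt_eq.mp (allB_spec hlt b hb)
  obtain ⟨g0, p0, f0⟩ := reduce_level (adjL := [b0, b1, b2, b3]) (excl := [])
    hl0 (fun b hb => hb) (fun b hm => hb b (by simp at hm ⊢; tauto)) (by simp) h hf
  obtain ⟨g1, p1, f1⟩ := reduce_level (adjL := [b0, b1, b2, b3]) (excl := [b4])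
    hl1 (fun b hb => by simp at hb ⊢; tauto) (fun b hm => hb b (by simp at hm ⊢; tauto))
    (fun b hb => by simp at hb ⊢; tauto) p0 f0
  obtain ⟨g2, p2, f2⟩ := reduce_level (adjL := [b0, b1, b2, b3]) (excl := [b4, b5])
    hl2 (fun b hb => by simp at hb ⊢; tauto) (fun b hm => hb b (by simp at hm ⊢; tauto))
    (fun b hb => by simp at hb ⊢; tauto) p1 f1
  set σ := (g2 : Equiv.Perm (Fin 416)) * ((g1 : Equiv.Perm (Fin 416)) *
    ((g0 : Equiv.Perm (Fin 416)) * π)) with hσ
  have h7 : σ ⟨b7, hb b7 (by simp)⟩ = ⟨b7, hb b7 (by simp)⟩ := by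
    have hc : (commonMask [b0, b1, b2, b3]).testBit b7 = true := by
      rw [hcom, testBit_listMask]; simp
    have h8 := common_image p2 (bs := [b0, b1, b2, b3]) (fun x hx => f2 x (by simp at hx ⊢; tauto))
      (fun b hm => hb b (by simp at hm ⊢; tauto)) (x := ⟨b7, hb b7 (by simp)⟩) hc
    rw [hcom, testBit_listMask] at h8
    simp only [List.mem_cons, List.not_mem_nil, or_false] at h8
    have hne : ∀ (b : ℕ) (hb' : b < 416), σ ⟨b, hb'⟩ = ⟨b, hb'⟩ → Nat.beq b7 b = false →
        (σ ⟨b7, hb b7 (by simp)⟩ : ℕ) ≠ b := by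
      intro b hb' hfx hbe he
      have := σ.injective ((Fin.ext he : σ ⟨b7, _⟩ = ⟨b, hb'⟩).trans hfx.symm)
      have : b7 = b := congrArg Fin.val this
      rw [Nat.beq_eq.mpr this] at hbe
      simp at hbe
    rcases h8 with e | e | e | e
    · exact absurd e (hne b4 (hb b4 (by simp)) (f2 _ (by simp)) hn4)
    · exact absurd e (hne b5 (hb b5 (by simp)) (f2 _ (by simp)) hn5)
    · exact absurd e (hne b6 (hb b6 (by simp)) (f2 _ (by simp)) hn6)
    · exact Fin.ext e
  have hone : σ = 1 := stage_spec hst p2 fun x hx => by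
    rw [testBit_listMask] at hx
    simp only [List.mem_cons, List.not_mem_nil, or_false] at hx
    by_cases h7' : (x : ℕ) = b7
    · obtain rfl : x = ⟨b7, hb b7 (by simp)⟩ := Fin.ext h7'
      exact h7
    · exact f2 x (by simp; tauto)
  exact mem_of_mul_mem (mem_of_mul_mem (mem_of_mul_mem (g := g2) (by
    rw [← hσ, hone]; exact one_mem _)))

theorem head_reduce {π : Equiv.Perm (Fin 416)} (h : Pres π) :
    π ∈ grp ∨ ∃ g : ↥grp, Pres ((g : Equiv.Perm (Fin 416)) * π) ∧
      FixL ((g : Equiv.Perm (Fin 416)) * π) [0, 4, 5] ∧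
      ((g : Equiv.Perm (Fin 416)) * π) 6 = 26 := by
  have hh := head_ok
  simp only [headB, Bool.and_eq_true, Nat.beq_eq] at hh
  obtain ⟨⟨⟨⟨⟨⟨⟨⟨⟨⟨⟨⟨⟨⟨⟨⟨hl0, hl1⟩, hfix⟩, hT⟩, hTa⟩, hr⟩, hra⟩, hor⟩, -⟩, a0⟩, a1⟩, a2⟩, a3⟩,
    -⟩, -⟩, -⟩, -⟩ := hh
  obtain ⟨g, hg⟩ := exists_ap_eq (π 0)
  have pa : Pres (((g⁻¹ : ↥grp) : Equiv.Perm (Fin 416)) * π) := pres_mul (pres_grp _) h
  have fa : FixL (((g⁻¹ : ↥grp) : Equiv.Perm (Fin 416)) * π) [0] := fun x hx => by
    obtain rfl : x = 0 := Fin.ext (by simpa using hx)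
    show ap g⁻¹ (π 0) = 0
    rw [← hg, ap_inv_ap]
  obtain ⟨g0, p0, f0⟩ := reduce_level (adjL := [0]) (excl := []) hl0 (fun b hb => hb)
    (by simp) (by simp) pa fa
  obtain ⟨g1, p1, f1⟩ := reduce_level (adjL := [0, 4]) (excl := []) hl1 (fun b hb => hb)
    (by simp) (by simp) p0 f0
  set σ := (g1 : Equiv.Perm (Fin 416)) * ((g0 : Equiv.Perm (Fin 416)) *
    (((g⁻¹ : ↥grp) : Equiv.Perm (Fin 416)) * π)) with hσ
  have h6 : (commonMask [0, 4, 5]).testBit ((6 : Fin 416) : ℕ) = true := by decide +kernel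
  have h6' := common_image p1 (bs := [0, 4, 5]) f1 (by simp) h6
  rw [← hor, show Nat.lor (treeMask chainTree2) (treeMask altTree) =
    treeMask chainTree2 ||| treeMask altTree from rfl, Nat.testBit_or, Bool.or_eq_true] at h6'
  rcases h6' with h6' | h6'
  · left
    obtain ⟨g2, p2, f2, e2⟩ := reduce_tree hfix hT p1 f1 6 hr.symm h6'
    have hmem : (g2 : Equiv.Perm (Fin 416)) * σ ∈ grp := by
      refine tail_spec tail_ok p2 ?_
      rw [show autBase.take 4 = [0, 4, 5, 6] by
        unfold autBase; rfl]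
      intro x hx
      by_cases h' : (x : ℕ) = 6
      · obtain rfl : x = 6 := Fin.ext h'
        exact e2
      · exact f2 x (by simp at hx ⊢; tauto)
    exact mem_of_mul_mem (mem_of_mul_mem (mem_of_mul_mem (mem_of_mul_mem hmem)))
  · right
    have h26 : (treeMask altTree).testBit ((26 : Fin 416) : ℕ) = true := by decide +kernel
    obtain ⟨g2, hg2, hg2r⟩ := tree_move hTa _ (fixB_spec hfix) h6' h26
    refine ⟨g2 * g1 * g0 * g⁻¹, ?_⟩
    have e : ((g2 * g1 * g0 * g⁻¹ : ↥grp) : Equiv.Perm (Fin 416)) * π =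
        (g2 : Equiv.Perm (Fin 416)) * σ := by
      simp only [hσ, Subgroup.coe_mul, mul_assoc]
    rw [e]
    refine ⟨pres_mul (pres_grp g2) p1, fun x hx => ?_, hg2r⟩
    rw [Equiv.Perm.mul_apply, f1 x hx]
    exact hg2 x hx

/-- `G2(4)` is normalised by all automorphisms of the graph. -/
theorem normalise {π : Equiv.Perm (Fin 416)} (h : Pres π) (a : ↥grp) :
    π * (a : Equiv.Perm (Fin 416)) * π⁻¹ ∈ grp := by
  by_cases hπ : π ∈ grp
  · exact mul_mem (mul_mem hπ a.2) (inv_mem hπ)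
  obtain ⟨g, p, f, e⟩ := (head_reduce h).resolve_left hπ
  set z := (g : Equiv.Perm (Fin 416)) * π with hz
  have hzn : z ∉ grp := fun hm => hπ (mem_of_mul_mem hm)
  have huniq : ∀ w : Equiv.Perm (Fin 416), Pres w → w ∉ grp → w * z⁻¹ ∈ grp := by
    intro w hw hwn
    obtain ⟨g', p', f', e'⟩ := (head_reduce hw).resolve_left hwn
    refine mem_of_mul_mem (g := g') ?_
    rw [← mul_assoc]
    refine tail_spec tailAlt_ok (pres_mul p' (pres_inv p)) ?_
    rw [show autBaseAlt.take 4 = [0, 4, 5, 26] by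
      unfold autBaseAlt; rfl]
    intro x hx
    rw [Equiv.Perm.mul_apply]
    by_cases h26 : (x : ℕ) = 26
    · obtain rfl : x = 26 := Fin.ext h26
      rw [show z⁻¹ (26 : Fin 416) = 6 from Equiv.Perm.inv_eq_iff_eq.2 e.symm, e']
    · have hx' : (x : ℕ) ∈ [0, 4, 5] := by simp at hx ⊢; tauto
      rw [show z⁻¹ x = x from Equiv.Perm.inv_eq_iff_eq.2 (f x hx').symm]
      exact f' x hx'
  have hsq : z * z ∈ grp := by
    by_contra hn
    have := huniq _ (pres_mul p p) hn
    rw [mul_inv_cancel_right] at this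
    exact hzn this
  have hw : z * (a : Equiv.Perm (Fin 416)) * z⁻¹ ∈ grp := by
    by_contra hn
    have h1 := huniq _ (pres_mul (pres_mul p (pres_grp a)) (pres_inv p)) hn
    have h2 : z * (a : Equiv.Perm (Fin 416)) ∈ grp := by
      have := mul_mem h1 hsq
      rwa [show z * (a : Equiv.Perm (Fin 416)) * z⁻¹ * z⁻¹ * (z * z) =
        z * (a : Equiv.Perm (Fin 416)) by group] at this
    exact hzn (by simpa using mul_mem h2 (inv_mem a.2))
  have e2 : π * (a : Equiv.Perm (Fin 416)) * π⁻¹ =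
      (g : Equiv.Perm (Fin 416))⁻¹ * (z * (a : Equiv.Perm (Fin 416)) * z⁻¹) * g := by
    rw [hz]; group
  rw [e2]
  exact mul_mem (mul_mem (inv_mem g.2) hw) g.2

end Cfsg.Agent.SuzRankThree
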