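import Cfsg.Agent.SuzRankThree.GraphDefs

/-! Evaluation of the checks on the graph on 416 points. -/

set_option autoImplicit false
set_option maxRecDepth 100000
set_option maxHeartbeats 0
set_option Elab.async false

namespace Cfsg.Agent.SuzRankThree

open Cfsg.Agent.Compute Cfsg.Agent.StemCert

theorem adj0_ok : allBelow 416 (adjStepB 0) = true := by decide +kernel

theorem adj1_ok : allBelow 416 (adjStepB 1) = true := by decide +kernel

theorem adj2_ok : allBelow 416 (adjStepB 2) = true := by decide +kernel

theorem adj3_ok : allBelow 416 (adjStepB 3) = true := by decide +kernel

theorem adj4_ok : allBelow 416 (adjStepB 4) = true := by decide +kernel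

theorem suborbit_ok : suborbitB = true := by decide +kernel

theorem head_ok : headB = true := by decide +kernel

theorem tail_ok :
    tailB autBase (stabChain.drop 3) chainTree3 chainTree4 chainTree5 stageMask = true := by
  decide +kernel

theorem tailAlt_ok :
    tailB autBaseAlt stabChainAlt chainTreeAlt0 chainTreeAlt1 chainTreeAlt2 stageMaskAlt = true := by
  decide +kernel

end Cfsg.Agent.SuzRankThree
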