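import Cfsg.Agent.SuzRankThree.ClassDefs
import Cfsg.Agent.SuzRankThree.GraphData

/-!
# Checks on the graph on 416 points
-/

set_option autoImplicit false
set_option maxRecDepth 100000

namespace Cfsg.Agent.SuzRankThree

open Cfsg.Agent.Compute Cfsg.Agent.StemCert

/-- The bit mask of the points of a tree. -/
noncomputable def treeMask (T : List (ℕ × ℕ × ℕ)) : ℕ :=
  List.rec (motive := fun _ => ℕ) 0 (fun e _ r => Nat.lor (Nat.shiftLeft 1 e.1) r) T

/-- The root of a tree. -/
noncomputable def treeRoot (T : List (ℕ × ℕ × ℕ)) : ℕ := (T.getD 0 (0, 0, 0)).1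

/-- Later points are images of earlier ones under the listed letters. -/
noncomputable def treeB (T : List (ℕ × ℕ × ℕ)) (ls : List ℕ) : Bool :=
  Nat.blt 0 T.length && allBelow T.length fun k =>
    Nat.blt (T.getD k (0, 0, 0)).1 416 &&
      (Nat.beq k 0 || (Nat.blt (T.getD k (0, 0, 0)).2.1 k &&
        anyB (Nat.beq (T.getD k (0, 0, 0)).2.2) ls && knownB [(T.getD k (0, 0, 0)).2.2] &&
        Nat.beq (appW 9 letterCodes [(T.getD k (0, 0, 0)).2.2]
          (T.getD (T.getD k (0, 0, 0)).2.1 (0, 0, 0)).1) (T.getD k (0, 0, 0)).1))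

/-- The letters fix the listed points. -/
noncomputable def fixB (ls bs : List ℕ) : Bool :=
  allB (fun l => knownB [l] && allB (fun b => Nat.blt b 416 && Nat.beq (appW 9 letterCodes [l] b) b) bs) ls

/-- The number of all points. -/
noncomputable def fullMask : ℕ := Nat.sub (Nat.shiftLeft 1 416) 1

/-- The common neighbours of the listed points. -/
noncomputable def commonMask (bs : List ℕ) : ℕ :=
  List.rec (motive := fun _ => ℕ) fullMask (fun b _ r => Nat.land (nbMask.get 0 b) r) bs

/-- The mask of the listed points. -/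
noncomputable def listMask (bs : List ℕ) : ℕ :=
  List.rec (motive := fun _ => ℕ) 0 (fun b _ r => Nat.lor (Nat.shiftLeft 1 b) r) bs

/-- The neighbourhoods are carried to each other by a generator. -/
noncomputable def adjStepB (s i : ℕ) : Bool :=
  forceN (nbMask.get 0 i) fun m =>
    forceN (nbMask.get 0 (appW 9 letterCodes [s] i)) fun m' =>
      Nat.ble m fullMask && allBelow 416 fun x =>
        !(Nat.testBit m x) || Nat.testBit m' (appW 9 letterCodes [s] x)

/-- The three suborbits of a point stabiliser. -/
noncomputable def suborbitB : Bool :=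
  fixB stabJ [0] && treeB tree100 stabJ && treeB tree315 stabJ &&
    Nat.beq (treeMask tree100) (nbMask.get 0 0) &&
    Nat.beq (Nat.lor 1 (Nat.lor (treeMask tree100) (treeMask tree315))) fullMask &&
    !(Nat.testBit (treeMask tree100) 0) && !(Nat.testBit (treeMask tree315) 0) &&
    Nat.beq (Nat.land (treeMask tree100) (treeMask tree315)) 0 &&
    treeB tree416 (List.range 5) && Nat.beq (treeMask tree416) fullMask && Nat.beq (treeRoot tree416) 0

/-- The points of a tree are the common neighbours of the base points not yet fixed, and the next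
base point is its root. -/
noncomputable def levelB (T : List (ℕ × ℕ × ℕ)) (ls bs : List ℕ) (r adj excl : ℕ) : Bool :=
  fixB ls bs && treeB T ls && Nat.beq (treeRoot T) r &&
    Nat.beq (Nat.land adj (Nat.xor fullMask excl)) (treeMask T)

/-- Each stage determines new points by their neighbours among the old ones. -/
noncomputable def stageB (S : List ℕ) (first : ℕ) : Bool :=
  Nat.beq (S.getD 0 0) first && Nat.beq (S.getD (Nat.sub S.length 1) 0) fullMask &&
    allBelow S.length fun k => forceN (S.getD k 0) fun F =>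
      Nat.beq (Nat.land F fullMask) F && (Nat.beq k 0 || forceN (S.getD (Nat.sub k 1) 0) fun F' =>
        allBelow 416 fun p => !(Nat.testBit F p) || Nat.testBit F' p ||
          forceN (Nat.land (nbMask.get 0 p) F') fun m =>
            allBelow 416 fun q => Nat.testBit F' q || Nat.beq p q ||
              !(Nat.beq (Nat.land (nbMask.get 0 q) F') m))

/-- The last stretch of a chain, on the four common neighbours of four base points. -/
noncomputable def tailB (B : List ℕ) (C : List (List ℕ)) (T0 T1 T2 : List (ℕ × ℕ × ℕ))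
    (S : List ℕ) : Bool :=
  levelB T0 (C.getD 0 []) (B.take 4) (B.getD 4 0) (commonMask (B.take 4)) 0 &&
    levelB T1 (C.getD 1 []) (B.take 5) (B.getD 5 0) (commonMask (B.take 4)) (listMask [B.getD 4 0]) &&
    levelB T2 (C.getD 2 []) (B.take 6) (B.getD 6 0) (commonMask (B.take 4))
      (listMask [B.getD 4 0, B.getD 5 0]) &&
    Nat.beq (commonMask (B.take 4)) (listMask (B.drop 4)) && Nat.beq B.length 8 &&
    allB (fun b => Nat.blt b 416) B &&
    !(Nat.beq (B.getD 7 0) (B.getD 4 0)) && !(Nat.beq (B.getD 7 0) (B.getD 5 0)) &&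
    !(Nat.beq (B.getD 7 0) (B.getD 6 0)) && stageB S (listMask B)

/-- The first levels of the two chains. -/
noncomputable def headB : Bool :=
  levelB chainTree0 (stabChain.getD 0 []) [0] 4 (commonMask [0]) 0 &&
    levelB chainTree1 (stabChain.getD 1 []) [0, 4] 5 (commonMask [0, 4]) 0 &&
    fixB (stabChain.getD 2 []) [0, 4, 5] && treeB chainTree2 (stabChain.getD 2 []) &&
    treeB altTree (stabChain.getD 2 []) && Nat.beq (treeRoot chainTree2) 6 &&
    Nat.beq (treeRoot altTree) 26 &&
    Nat.beq (Nat.lor (treeMask chainTree2) (treeMask altTree)) (commonMask [0, 4, 5]) &&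
    Nat.beq (Nat.land (treeMask chainTree2) (treeMask altTree)) 0 &&
    Nat.beq (autBase.getD 0 0) 0 && Nat.beq (autBase.getD 1 0) 4 && Nat.beq (autBase.getD 2 0) 5 &&
    Nat.beq (autBase.getD 3 0) 6 && Nat.beq (autBaseAlt.getD 0 0) 0 &&
    Nat.beq (autBaseAlt.getD 1 0) 4 && Nat.beq (autBaseAlt.getD 2 0) 5 &&
    Nat.beq (autBaseAlt.getD 3 0) 26

end Cfsg.Agent.SuzRankThree
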