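import Cfsg.Agent.SuzRankThree.SetDefs

/-! Evaluation of the checks on the orbit of 1365 sets. -/

set_option autoImplicit false
set_option maxRecDepth 100000
set_option maxHeartbeats 0
set_option Elab.async false

namespace Cfsg.Agent.SuzRankThree

open Cfsg.Agent.Compute Cfsg.Agent.StemCert

theorem setStep_ok : allBelow 1365 setStepB = true := by decide +kernel

theorem setTree_ok : setTreeB = true := by decide +kernel

theorem setSort_ok : sortB 1365 setOrd setMask = true := by decide +kernel

theorem fixSet_ok : fixSetB = true := by decide +kernel

theorem pTree0_ok : pTreeB pTree0 = true := by decide +kernel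

theorem pTree1_ok : pTreeB pTree1 = true := by decide +kernel

theorem pTree2_ok : pTreeB pTree2 = true := by decide +kernel

theorem pCover_ok : pCoverB = true := by decide +kernel

theorem badStep_ok : allBelow 1366 badStepB = true := by decide +kernel

theorem badSort_ok : sortB 1366 badSetOrd badSetMask = true := by decide +kernel

theorem badLink_ok : badLinkB = true := by decide +kernel

theorem uOrbit_ok : uOrbitB = true := by decide +kernel

theorem uChain_ok : uChainB = true := by decide +kernel

end Cfsg.Agent.SuzRankThree
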