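import Cfsg.Agent.SuzRankThree.GraphDefs
import Cfsg.Agent.SuzRankThree.SetData
import Cfsg.Agent.SuzRankThree.BadData

/-!
# Checks on the orbit of 1365 sets of 96 points
-/

set_option autoImplicit false
set_option maxRecDepth 100000

namespace Cfsg.Agent.SuzRankThree

open Cfsg.Agent.Compute Cfsg.Agent.StemCert

/-- The first 96 fields are increasing points and give exactly the mask. -/
noncomputable def shapeB (m l : ℕ) : Bool :=
  allBelow 96 (fun k => Nat.blt (getField 9 l k) 416 &&
    (Nat.beq (Nat.succ k) 96 || Nat.blt (getField 9 l k) (getField 9 l (Nat.succ k)))) &&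
  Nat.beq m (Nat.rec (motive := fun _ => ℕ) 0
    (fun k r => Nat.lor (Nat.shiftLeft 1 (getField 9 l k)) r) 96)

/-- A word maps the listed points into a mask. -/
noncomputable def intoB (w : List ℕ) (l m : ℕ) : Bool :=
  allBelow 96 fun k => Nat.testBit m (appW 9 letterCodes w (getField 9 l k))

/-- The shape of a set and its images under the generators. -/
noncomputable def setStepB (j : ℕ) : Bool :=
  forceN (setList.get 0 j) fun l => shapeB (setMask.get 0 j) l &&
    allBelow 5 fun s => forceN (getField 11 (setTab.getD s 0) j) fun k =>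
      Nat.blt k 1365 && intoB [s] l (setMask.get 0 k)

/-- The sets form one orbit. -/
noncomputable def setTreeB : Bool :=
  allBelow 1365 fun j => Nat.beq j 0 ||
    (Nat.blt (setPar.get (0, 0) j).1 j && Nat.blt (setPar.get (0, 0) j).2 5 &&
      Nat.beq (getField 11 (setTab.getD (setPar.get (0, 0) j).2 0) (setPar.get (0, 0) j).1) j)

/-- The masks increase in the listed order. -/
noncomputable def sortB (n : ℕ) (ord masks : Arr ℕ) : Bool :=
  allBelow n fun t => Nat.blt (ord.get 0 t) n &&
    (Nat.beq (Nat.succ t) n ||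
      Nat.blt (masks.get 0 (ord.get 0 t)) (masks.get 0 (ord.get 0 (Nat.succ t))))

/-- The letters fix the first set. -/
noncomputable def fixSetB : Bool :=
  allB (fun l => knownB [l] && intoB [l] (setList.get 0 0) (setMask.get 0 0)) pLetters

/-- An orbit of the parabolic subgroup on the sets. -/
noncomputable def pTreeB (T : List (ℕ × ℕ × ℕ)) : Bool :=
  Nat.blt 0 T.length && allBelow T.length fun k =>
    Nat.blt (T.getD k (0, 0, 0)).1 1365 &&
      (Nat.beq k 0 || (Nat.blt (T.getD k (0, 0, 0)).2.1 k &&
        anyB (Nat.beq (T.getD k (0, 0, 0)).2.2) pLetters &&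
        intoB [(T.getD k (0, 0, 0)).2.2]
          (setList.get 0 (T.getD (T.getD k (0, 0, 0)).2.1 (0, 0, 0)).1)
          (setMask.get 0 (T.getD k (0, 0, 0)).1)))

/-- The orbits cover the sets. -/
noncomputable def pCoverB : Bool :=
  Nat.beq (Nat.lor 1 (Nat.lor (treeMask pTree0) (Nat.lor (treeMask pTree1) (treeMask pTree2))))
    (Nat.sub (Nat.shiftLeft 1 1365) 1) &&
  Nat.beq pTree0.length 20 && Nat.beq pTree1.length 320 && Nat.beq pTree2.length 1024

/-- A set in the orbit of the unwanted set. -/
noncomputable def badStepB (j : ℕ) : Bool :=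
  forceN (badSetList.get 0 j) fun l => shapeB (badSetMask.get 0 j) l &&
    (Nat.beq j 0 || (Nat.blt (badSetPar.get (0, 0) j).1 j && Nat.blt (badSetPar.get (0, 0) j).2 5 &&
      intoB [(badSetPar.get (0, 0) j).2] (badSetList.get 0 (badSetPar.get (0, 0) j).1)
        (badSetMask.get 0 j)))

/-- The unwanted sets are in one orbit. -/
noncomputable def badLinkB : Bool :=
  Nat.beq badMask.length 3 && allBelow 3 fun i =>
    allB (fun s => Nat.blt s 5) (badWord.getD i []) &&
      intoB (badWord.getD i []) (badSetList.get 0 0) (badMask.getD i 0)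

/-- The five orbits of the Sylow two-subgroup. -/
noncomputable def uTree (k : ℕ) : List (ℕ × ℕ × ℕ) :=
  [uTree0, uTree1, uTree2, uTree3, uTree4].getD k []

/-- The union of some of the five orbits. -/
noncomputable def uUnion (b : ℕ) : ℕ :=
  Nat.rec (motive := fun _ => ℕ) 0
    (fun k r => cond (Nat.testBit b k) (Nat.lor (treeMask (uTree k)) r) r) 5

/-- The number of points of a mask. -/
noncomputable def popB (m : ℕ) : ℕ :=
  Nat.rec (motive := fun _ => ℕ) 0 (fun x r => cond (Nat.testBit m x) (Nat.succ r) r) 416

/-- The only unions of 96 points are the wanted set and the unwanted ones. -/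
noncomputable def uOrbitB : Bool :=
  allBelow 5 (fun k => treeB (uTree k) uLetters) && Nat.beq (uUnion 31) fullMask &&
    allBelow 32 fun b => forceN (uUnion b) fun m => !(Nat.beq (popB m) 96) ||
      Nat.beq m (setMask.get 0 0) || anyB (Nat.beq m) badMask

/-- A chain of root subgroups, each normalising the later ones. -/
noncomputable def uChainB : Bool :=
  Nat.beq uLetters.length 12 && allB (fun l => eqW [l, l] []) uLetters &&
    allBelow 6 fun i =>
      eqW [uLetters.getD (Nat.mul 2 i) 0, uLetters.getD (Nat.succ (Nat.mul 2 i)) 0]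
        [uLetters.getD (Nat.succ (Nat.mul 2 i)) 0, uLetters.getD (Nat.mul 2 i) 0] &&
      allB (fun g => allB (fun h =>
        anyB (fun p => Nat.beq p.1 g && Nat.beq p.2.1 h &&
          allB (fun s => anyB (Nat.beq s) (uLetters.drop (Nat.mul 2 (Nat.succ i)))) p.2.2 &&
          eqW [g, h, g] p.2.2) uChain) (uLetters.drop (Nat.mul 2 (Nat.succ i))))
        [uLetters.getD (Nat.mul 2 i) 0, uLetters.getD (Nat.succ (Nat.mul 2 i)) 0]

end Cfsg.Agent.SuzRankThree
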