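import Cfsg.Agent.SuzRankThree.SetCheck
import Cfsg.Agent.SuzRankThree.Graph

/-!
# The orbit of 1365 sets of 96 points
-/

set_option autoImplicit false
set_option maxRecDepth 100000

namespace Cfsg.Agent.SuzRankThree

open Cfsg.Agent.Compute Cfsg.Agent.StemCert

attribute [local irreducible] letterCodes letterWords setMask setList setPar setTab setOrd
  badSetMask badSetList badSetPar badSetOrd badMask badWord uLetters pLetters pTree0 pTree1 pTree2
  uTree0 uTree1 uTree2 uTree3 uTree4 uChain fullMask

/-- The points of a mask. -/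
noncomputable def bitsOf (m : ℕ) : Finset (Fin 416) :=
  Finset.univ.filter fun x => m.testBit (x : ℕ) = true

theorem mem_bitsOf {m : ℕ} {x : Fin 416} : x ∈ bitsOf m ↔ m.testBit (x : ℕ) = true := by
  simp [bitsOf]

/-- The image of a set of points. -/
noncomputable def im (g : ↥grp) (S : Finset (Fin 416)) : Finset (Fin 416) := S.image (ap g)

theorem im_mul (g h : ↥grp) (S : Finset (Fin 416)) : im (g * h) S = im g (im h S) := by
  rw [im, im, im, Finset.image_image]
  rfl

theorem im_one (S : Finset (Fin 416)) : im 1 S = S := by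
  rw [im]
  exact Finset.image_id

theorem im_inv_im (g : ↥grp) (S : Finset (Fin 416)) : im g⁻¹ (im g S) = S := by
  rw [← im_mul, inv_mul_cancel, im_one]

theorem card_im (g : ↥grp) (S : Finset (Fin 416)) : (im g S).card = S.card :=
  Finset.card_image_of_injective _ (Equiv.injective _)

theorem orFields_testBit (f : ℕ → ℕ) : ∀ n x : ℕ,
    (Nat.rec (motive := fun _ => ℕ) 0 (fun k r => Nat.lor (Nat.shiftLeft 1 (f k)) r) n).testBit x
      = true ↔ ∃ k < n, f k = x := by
  intro n
  induction n with
  | zero => intro x; simp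
  | succ n ih =>
    intro x
    rw [show (Nat.rec (motive := fun _ => ℕ) 0
        (fun k r => Nat.lor (Nat.shiftLeft 1 (f k)) r) (n + 1) : ℕ) =
      2 ^ (f n) ||| (Nat.rec (motive := fun _ => ℕ) 0
        (fun k r => Nat.lor (Nat.shiftLeft 1 (f k)) r) n) by rw [← Nat.one_shiftLeft]; rfl,
      Nat.testBit_or, Bool.or_eq_true, ih x, Nat.testBit_two_pow, decide_eq_true_eq]
    constructor
    · rintro (h | ⟨k, hk, h⟩)
      exacts [⟨n, by omega, h⟩, ⟨k, by omega, h⟩]
    · rintro ⟨k, hk, h⟩
      rcases Nat.lt_succ_iff_lt_or_eq.1 hk with h' | h'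
      exacts [Or.inr ⟨k, h', h⟩, Or.inl (h' ▸ h)]

theorem shape_spec {m l : ℕ} (h : shapeB m l = true) :
    (∀ k < 96, getField 9 l k < 416) ∧
    (∀ x, m.testBit x = true ↔ ∃ k < 96, getField 9 l k = x) ∧ (bitsOf m).card = 96 := by
  simp only [shapeB, Bool.and_eq_true, Bool.or_eq_true, allBelow_eq_true, Nat.blt_eq, Nat.beq_eq] at h
  obtain ⟨h1, h2⟩ := h
  have hm : ∀ x, m.testBit x = true ↔ ∃ k < 96, getField 9 l k = x := fun x => by
    rw [h2]; exact orFields_testBit _ 96 x
  refine ⟨fun k hk => (h1 k hk).1, hm, ?_⟩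
  have mono : ∀ d k, k + d + 1 < 96 → getField 9 l k < getField 9 l (k + d + 1) := by
    have step : ∀ k, k + 1 < 96 → getField 9 l k < getField 9 l (k + 1) := fun k hk =>
      (h1 k (by omega)).2.resolve_left (by omega)
    intro d
    induction d with
    | zero => exact fun k hk => step k hk
    | succ d ih => exact fun k hk => lt_trans (ih k (by omega)) (step (k + d + 1) (by omega))
  let f : Fin 96 → Fin 416 := fun k => ⟨getField 9 l k, (h1 k k.2).1⟩
  have hf : Function.Injective f := by
    intro a b he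
    have he' : getField 9 l a = getField 9 l b := congrArg Fin.val he
    rcases Nat.lt_trichotomy (a : ℕ) b with h | h | h
    · have := mono (b - a - 1) a (by omega)
      rw [show (a : ℕ) + (b - a - 1) + 1 = b by omega] at this
      omega
    · exact Fin.ext h
    · have := mono (a - b - 1) b (by omega)
      rw [show (b : ℕ) + (a - b - 1) + 1 = a by omega] at this
      omega
  have : bitsOf m = Finset.univ.image f := by
    ext x
    rw [mem_bitsOf, hm, Finset.mem_image]
    exact ⟨fun ⟨k, hk, e⟩ => ⟨⟨k, hk⟩, Finset.mem_univ _, Fin.ext e⟩,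
      fun ⟨k, _, e⟩ => ⟨k, k.2, congrArg Fin.val e⟩⟩
  rw [this, Finset.card_image_of_injective _ hf, Finset.card_univ, Fintype.card_fin]

theorem bits_inj {m l m' l' : ℕ} (h : shapeB m l = true) (h' : shapeB m' l' = true)
    (he : bitsOf m = bitsOf m') : m = m' := by
  obtain ⟨hlt, hm, -⟩ := shape_spec h
  obtain ⟨hlt', hm', -⟩ := shape_spec h'
  refine Nat.eq_of_testBit_eq fun x => Bool.eq_iff_iff.2 ⟨fun hx => ?_, fun hx => ?_⟩
  · obtain ⟨k, hk, rfl⟩ := (hm x).1 hx
    exact mem_bitsOf.1 (he ▸ (mem_bitsOf (x := ⟨_, hlt k hk⟩)).2 hx)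
  · obtain ⟨k, hk, rfl⟩ := (hm' x).1 hx
    exact mem_bitsOf.1 (he.symm ▸ (mem_bitsOf (x := ⟨_, hlt' k hk⟩)).2 hx)

theorem into_eq {w : List ℕ} (hw : knownB w = true) {m l m' l' : ℕ} (h : shapeB m l = true)
    (h' : shapeB m' l' = true) (hi : intoB w l m' = true) :
    im (evalW letter w) (bitsOf m) = bitsOf m' := by
  obtain ⟨hlt, hm, hc⟩ := shape_spec h
  obtain ⟨-, -, hc'⟩ := shape_spec h'
  refine Finset.eq_of_subset_of_card_le (fun y hy => ?_) (by rw [card_im, hc, hc'])
  obtain ⟨x, hx, rfl⟩ := Finset.mem_image.1 hy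
  obtain ⟨k, hk, hkx⟩ := (hm x).1 (mem_bitsOf.1 hx)
  have := allBelow_eq_true.mp hi k hk
  rw [hkx] at this
  rw [mem_bitsOf, ap, apply_word hw x]
  exact this

theorem knownB_five {s : ℕ} (hs : s < 5) : knownB [s] = true :=
  allB_true fun t ht => Nat.blt_eq.mpr (by
    rw [List.mem_singleton.1 ht]; exact lt_of_lt_of_le hs (by decide))

theorem evalW_single (s : ℕ) : evalW letter [s] = letter s := by simp [evalW]

theorem evalW_ofWord {w : List ℕ} (hw : ∀ s ∈ w, s < 5) : knownB w = true :=
  allB_true fun t ht => Nat.blt_eq.mpr (lt_of_lt_of_le (hw t ht) (by decide))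

/-! ### The wanted orbit -/

theorem setShape {j : ℕ} (hj : j < 1365) : shapeB (setMask.get 0 j) (setList.get 0 j) = true := by
  have h := allBelow_eq_true.mp setStep_ok j hj
  rw [setStepB, forceN_eq, Bool.and_eq_true] at h
  exact h.1

/-- A set of the orbit. -/
noncomputable def sM (j : Fin 1365) : Finset (Fin 416) := bitsOf (setMask.get 0 (j : ℕ))

theorem card_sM (j : Fin 1365) : (sM j).card = 96 := (shape_spec (setShape j.2)).2.2

theorem sM_step {s : ℕ} (hs : s < 5) (j : Fin 1365) :
    ∃ k : Fin 1365, (k : ℕ) = getField 11 (setTab.getD s 0) j ∧ im (letter s) (sM j) = sM k := by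
  have h := allBelow_eq_true.mp setStep_ok j j.2
  simp only [setStepB, forceN_eq, Bool.and_eq_true, allBelow_eq_true, Nat.blt_eq] at h
  obtain ⟨hk, hi⟩ := h.2 s hs
  refine ⟨⟨_, hk⟩, rfl, ?_⟩
  rw [← evalW_single]
  exact into_eq (knownB_five hs) (setShape j.2) (setShape hk) hi

theorem sM_closed (g : ↥grp) : ∀ j : Fin 1365, ∃ k : Fin 1365, im g (sM j) = sM k := by
  induction g using grp_induction with
  | h1 => exact fun j => ⟨j, im_one _⟩
  | hm s hs g ih =>
    intro j
    obtain ⟨k, hk⟩ := ih j
    obtain ⟨k', -, hk'⟩ := sM_step hs k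
    exact ⟨k', by rw [im_mul, hk, hk']⟩

theorem sorted_inj {n : ℕ} {ord masks : Arr ℕ} (h : sortB n ord masks = true) {i j : ℕ} (hi : i < n)
    (hj : j < n) (he : masks.get 0 i = masks.get 0 j) : i = j := by
  simp only [sortB, Bool.and_eq_true, Bool.or_eq_true, allBelow_eq_true, Nat.blt_eq, Nat.beq_eq] at h
  have mono : ∀ d t, t + d + 1 < n →
      masks.get 0 (ord.get 0 t) < masks.get 0 (ord.get 0 (t + d + 1)) := by
    have step : ∀ t, t + 1 < n → masks.get 0 (ord.get 0 t) < masks.get 0 (ord.get 0 (t + 1)) :=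
      fun t ht => (h t (by omega)).2.resolve_left (by omega)
    intro d
    induction d with
    | zero => exact fun t ht => step t ht
    | succ d ih => exact fun t ht => lt_trans (ih t (by omega)) (step (t + d + 1) (by omega))
  let f : Fin n → Fin n := fun t => ⟨ord.get 0 t, (h t t.2).1⟩
  have key : ∀ a b : Fin n, masks.get 0 (f a : ℕ) = masks.get 0 (f b : ℕ) → a = b := by
    intro a b he
    rcases Nat.lt_trichotomy (a : ℕ) b with h | h | h
    · have := mono (b - a - 1) a (by omega)
      rw [show (a : ℕ) + (b - a - 1) + 1 = b by omega] at this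
      exact absurd he (Nat.ne_of_lt this)
    · exact Fin.ext h
    · have := mono (a - b - 1) b (by omega)
      rw [show (b : ℕ) + (a - b - 1) + 1 = a by omega] at this
      exact absurd he.symm (Nat.ne_of_lt this)
  have hf : Function.Surjective f :=
    Finite.surjective_of_injective fun a b e => key a b (by rw [e])
  obtain ⟨a, ha⟩ := hf ⟨i, hi⟩
  obtain ⟨b, hb⟩ := hf ⟨j, hj⟩
  have := key a b (by rw [ha, hb]; exact he)
  subst this
  exact congrArg Fin.val (ha.symm.trans hb)

theorem sM_inj : Function.Injective sM := fun i j he =>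
  Fin.ext (sorted_inj setSort_ok i.2 j.2 (bits_inj (setShape i.2) (setShape j.2) he))

/-- The action on the sets. -/
noncomputable def kap (g : ↥grp) (j : Fin 1365) : Fin 1365 := (sM_closed g j).choose

theorem kap_spec (g : ↥grp) (j : Fin 1365) : im g (sM j) = sM (kap g j) :=
  (sM_closed g j).choose_spec

theorem kap_mul (g h : ↥grp) (j : Fin 1365) : kap (g * h) j = kap g (kap h j) :=
  sM_inj (by rw [← kap_spec, ← kap_spec, ← kap_spec, im_mul])

theorem kap_one (j : Fin 1365) : kap 1 j = j := sM_inj (by rw [← kap_spec, im_one])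

theorem kap_inv_kap (g : ↥grp) (j : Fin 1365) : kap g⁻¹ (kap g j) = j := by
  rw [← kap_mul, inv_mul_cancel, kap_one]

theorem exists_kap_eq (j : Fin 1365) : ∃ g : ↥grp, kap g 0 = j := by
  obtain ⟨j, hj⟩ := j
  induction j using Nat.strong_induction_on with
  | _ j ih =>
    by_cases h0 : j = 0
    · subst h0; exact ⟨1, kap_one _⟩
    have h := allBelow_eq_true.mp setTree_ok j hj
    simp only [Bool.or_eq_true, Bool.and_eq_true, Nat.blt_eq, Nat.beq_eq] at h
    obtain ⟨⟨hp, hl⟩, he⟩ := h.resolve_left h0
    obtain ⟨g, hg⟩ := ih _ hp (by omega)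
    obtain ⟨k, hk, hks⟩ := sM_step hl ⟨_, lt_trans hp hj⟩
    refine ⟨letter (setPar.get (0, 0) j).2 * g, sM_inj ?_⟩
    rw [← kap_spec, im_mul, kap_spec, hg, hks]
    exact congrArg sM (Fin.ext (hk.trans he))

/-- The stabiliser of the first set. -/
noncomputable def setStab : Subgroup ↥grp where
  carrier := {g | kap g 0 = 0}
  one_mem' := kap_one 0
  mul_mem' := fun {g h} hg hh => by
    show kap (g * h) 0 = 0
    rw [kap_mul, show kap h 0 = 0 from hh]
    exact hg
  inv_mem' := fun {g} hg => by
    show kap g⁻¹ 0 = 0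
    conv_lhs => rw [← show kap g 0 = 0 from hg]
    rw [kap_inv_kap]

theorem mem_setStab {g : ↥grp} : g ∈ setStab ↔ kap g 0 = 0 := Iff.rfl

theorem setStab_index : setStab.index = 1365 := by
  rw [Subgroup.index_eq_card, ← Nat.card_fin 1365]
  refine Nat.card_congr (Equiv.ofBijective
    (Quotient.lift (fun g : ↥grp => kap g 0) fun a b hab => ?_) ⟨?_, fun j => ?_⟩)
  · have : kap (a⁻¹ * b) 0 = 0 := QuotientGroup.leftRel_apply.1 hab
    have h2 := congrArg (kap a) this
    rw [← kap_mul, mul_inv_cancel_left] at h2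
    exact h2.symm
  · rintro ⟨a⟩ ⟨b⟩ he
    refine QuotientGroup.eq.2 (mem_setStab.2 ?_)
    rw [kap_mul, ← show kap a 0 = kap b 0 from he, kap_inv_kap]
  · obtain ⟨g, hg⟩ := exists_kap_eq j
    exact ⟨QuotientGroup.mk g, hg⟩

/-! ### The unwanted orbit -/

theorem badShape {j : ℕ} (hj : j < 1366) :
    shapeB (badSetMask.get 0 j) (badSetList.get 0 j) = true := by
  have h := allBelow_eq_true.mp badStep_ok j hj
  rw [badStepB, forceN_eq, Bool.and_eq_true] at h
  exact h.1

theorem bad_orbit : ∀ j < 1366,
    ∃ g : ↥grp, im g (bitsOf (badSetMask.get 0 0)) = bitsOf (badSetMask.get 0 j) := by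
  intro j
  induction j using Nat.strong_induction_on with
  | _ j ih =>
    intro hj
    by_cases h0 : j = 0
    · subst h0; exact ⟨1, im_one _⟩
    have h := allBelow_eq_true.mp badStep_ok j hj
    simp only [badStepB, forceN_eq, Bool.or_eq_true, Bool.and_eq_true, Nat.blt_eq, Nat.beq_eq] at h
    obtain ⟨⟨hp, hl⟩, hi⟩ := h.2.resolve_left h0
    obtain ⟨g, hg⟩ := ih _ hp (by omega)
    refine ⟨letter (badSetPar.get (0, 0) j).2 * g, ?_⟩
    rw [im_mul, hg, ← evalW_single]
    exact into_eq (knownB_five hl) (badShape (by omega)) (badShape hj) hi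

theorem bad_not_invariant {H : Subgroup ↥grp} (hH : H.index = 1365) {i : ℕ} (hi : i < 3)
    (hc : (bitsOf (badMask.getD i 0)).card = 96) :
    ¬ ∀ g ∈ H, im g (bitsOf (badMask.getD i 0)) = bitsOf (badMask.getD i 0) := by
  intro hinv
  have h := badLink_ok
  simp only [badLinkB, Bool.and_eq_true, allBelow_eq_true] at h
  obtain ⟨hw, hinto⟩ := h.2 i hi
  have hw' : ∀ s ∈ badWord.getD i [], s < 5 := fun s hs => Nat.blt_eq.mp (allB_spec hw s hs)
  set M := bitsOf (badMask.getD i 0) with hM
  set w := evalW letter (badWord.getD i []) with hwdef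
  have hM0 : im w (bitsOf (badSetMask.get 0 0)) = M := by
    obtain ⟨hlt, hm, hc0⟩ := shape_spec (badShape (show 0 < 1366 by norm_num))
    refine Finset.eq_of_subset_of_card_le (fun y hy => ?_) (by rw [card_im, hc0, hc])
    obtain ⟨x, hx, rfl⟩ := Finset.mem_image.1 hy
    obtain ⟨k, hk, hkx⟩ := (hm x).1 (mem_bitsOf.1 hx)
    have := allBelow_eq_true.mp hinto k hk
    rw [hkx] at this
    rw [hM, mem_bitsOf, ap, apply_word (evalW_ofWord hw') x]
    exact this
  let F : ↥grp ⧸ H → Finset (Fin 416) := Quotient.lift (fun g => im g M) fun a b hab => by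
    have := hinv _ (QuotientGroup.leftRel_apply.1 hab)
    have h2 := congrArg (im a) this
    rw [← im_mul, mul_inv_cancel_left] at h2
    exact h2.symm
  have hmem : ∀ j < 1366, ∃ q, F q = bitsOf (badSetMask.get 0 j) := by
    intro j hj
    obtain ⟨g, hg⟩ := bad_orbit j hj
    refine ⟨QuotientGroup.mk (g * w⁻¹), ?_⟩
    show im (g * w⁻¹) M = _
    rw [← hM0, im_mul, im_inv_im, hg]
  choose q hq using hmem
  let f : Fin 1366 → ↥grp ⧸ H := fun j => q j j.2
  have hf : Function.Injective f := fun a b he =>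
    Fin.ext (sorted_inj badSort_ok a.2 b.2 (bits_inj (badShape a.2) (badShape b.2) (by
      rw [← hq a a.2, ← hq b b.2]; exact congrArg F he)))
  have := Nat.card_le_card_of_injective f hf
  rw [Nat.card_fin, ← Subgroup.index_eq_card, hH] at this
  omega

/-! ### The Sylow two-subgroup -/

/-- The group generated by the root letters. -/
noncomputable def uGroup : Subgroup ↥grp := Subgroup.closure {g | ∃ l ∈ uLetters, letter l = g}

theorem uGroup_pgroup : IsPGroup 2 uGroup := by
  have h := uChain_ok
  simp only [uChainB, Bool.and_eq_true, allBelow_eq_true, Nat.beq_eq] at h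
  obtain ⟨⟨hlen, hsq⟩, hlev⟩ := h
  have hinv : ∀ l ∈ uLetters, letter l * letter l = 1 := fun l hl => by
    simpa [evalW] using eqW_spec (allB_spec hsq l hl)
  let V : ℕ → Subgroup ↥grp := fun i =>
    Subgroup.closure {g | ∃ l ∈ uLetters.drop (2 * i), letter l = g}
  suffices key : ∀ d i, i + d = 6 → IsPGroup 2 (V i) by
    have e : V 0 = uGroup := by
      show Subgroup.closure _ = _
      rw [Nat.mul_zero, List.drop_zero]
      rfl
    exact e ▸ key 6 0 rfl
  intro d
  induction d with
  | zero =>
    intro i hi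
    obtain rfl : i = 6 := by omega
    have : V 6 = ⊥ := by
      refine (Subgroup.closure_eq_bot_iff).2 ?_
      rintro g ⟨l, hl, -⟩
      rw [List.drop_eq_nil_of_le (by omega)] at hl
      simp at hl
    rw [this]
    exact IsPGroup.of_bot
  | succ d ih =>
    intro i hi
    obtain ⟨hcomm, hconj⟩ := hlev i (by omega)
    set a := uLetters.getD (2 * i) 0 with ha
    set b := uLetters.getD (2 * i + 1) 0 with hb
    have hcomm' : Commute (letter a) (letter b) := by
      have := eqW_spec hcomm
      simpa [evalW, Commute, SemiconjBy, ha, hb] using this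
    have hdrop : uLetters.drop (2 * i) = a :: b :: uLetters.drop (2 * (i + 1)) := by
      rw [List.drop_eq_getElem_cons (by omega), List.drop_eq_getElem_cons (by omega), ha, hb,
        List.getD_eq_getElem _ _ (by omega), List.getD_eq_getElem _ _ (by omega)]
      rfl
    have hab : ∀ g, (g = a ∨ g = b) → g ∈ uLetters := by
      intro g hg
      refine List.mem_of_mem_drop (i := 2 * i) ?_
      rw [hdrop]
      rcases hg with rfl | rfl <;> simp
    let A : Subgroup ↥grp := Subgroup.closure {letter a, letter b}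
    have hA : IsPGroup 2 A := by
      intro g
      refine ⟨1, Subtype.ext ?_⟩
      rw [pow_one, Subgroup.coe_pow, Subgroup.coe_one]
      obtain ⟨g, hg⟩ := g
      suffices ∀ y ∈ A, y ^ 2 = 1 ∧ Commute y (letter a) ∧ Commute y (letter b) from (this g hg).1
      intro y hy
      induction hy using Subgroup.closure_induction with
      | mem y h =>
        rcases h with rfl | rfl
        exacts [⟨by rw [pow_two]; exact hinv _ (hab _ (Or.inl rfl)), Commute.refl _, hcomm'⟩,
          ⟨by rw [pow_two]; exact hinv _ (hab _ (Or.inr rfl)), hcomm'.symm, Commute.refl _⟩]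
      | one => exact ⟨one_pow _, Commute.one_left _, Commute.one_left _⟩
      | mul u v hu hv ihu ihv =>
        have huv : Commute u v := by
          clear ihv
          induction hv using Subgroup.closure_induction with
          | mem y h => rcases h with rfl | rfl; exacts [ihu.2.1, ihu.2.2]
          | one => exact Commute.one_right _
          | mul p q _ _ hp hq => exact hp.mul_right hq
          | inv p _ hp => exact hp.inv_right
        exact ⟨by rw [huv.mul_pow, ihu.1, ihv.1, one_mul], ihu.2.1.mul_left ihv.2.1,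
          ihu.2.2.mul_left ihv.2.2⟩
      | inv u _ ihu => exact ⟨by rw [inv_pow, ihu.1, inv_one], ihu.2.1.inv_left, ihu.2.2.inv_left⟩
    have hnorm : A ≤ Subgroup.normalizer (V (i + 1) : Set ↥grp) := by
      have key : ∀ g, (g = a ∨ g = b) → ∀ x ∈ V (i + 1), letter g * x * letter g ∈ V (i + 1) := by
        intro g hg x hx
        have hgg := hinv g (hab g hg)
        induction hx using Subgroup.closure_induction with
        | mem x hx =>
          obtain ⟨l, hl, rfl⟩ := hx
          have h1 := allB_spec hconj g (by rcases hg with rfl | rfl <;> simp [ha, hb])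
          have h2 := allB_spec h1 l hl
          obtain ⟨p, -, hp⟩ := anyB_spec h2
          simp only [Bool.and_eq_true] at hp
          have he := eqW_spec hp.2
          simp only [evalW, List.map_cons, List.map_nil, List.prod_cons, List.prod_nil,
            mul_one] at he
          rw [mul_assoc, he]
          refine list_prod_mem fun y hy => ?_
          obtain ⟨s, hs, rfl⟩ := List.mem_map.1 hy
          obtain ⟨s', hs', hse⟩ := anyB_spec (allB_spec hp.1.2 s hs)
          rw [Nat.beq_eq] at hse
          exact Subgroup.subset_closure ⟨s, hse ▸ hs', rfl⟩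
        | one => rw [mul_one, hgg]; exact one_mem _
        | mul u v _ _ hu hv =>
          have := mul_mem hu hv
          rwa [show letter g * u * letter g * (letter g * v * letter g) =
            letter g * u * (letter g * letter g) * v * letter g by group, hgg, mul_one,
            mul_assoc (letter g) u v] at this
        | inv u _ hu =>
          have := inv_mem hu
          rwa [mul_inv_rev, mul_inv_rev, inv_eq_of_mul_eq_one_right hgg, ← mul_assoc] at this
      rw [Subgroup.closure_le]
      intro y hy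
      rw [SetLike.mem_coe, Subgroup.mem_normalizer_iff]
      have hy' : ∃ g, (g = a ∨ g = b) ∧ letter g = y := by
        rcases hy with rfl | rfl
        exacts [⟨a, Or.inl rfl, rfl⟩, ⟨b, Or.inr rfl, rfl⟩]
      obtain ⟨g, hg, rfl⟩ := hy'
      intro x
      rw [inv_eq_of_mul_eq_one_right (hinv g (hab g hg))]
      refine ⟨fun hx => key g hg x hx, fun hx => ?_⟩
      have := key g hg _ hx
      rwa [show letter g * (letter g * x * letter g) * letter g =
        letter g * letter g * x * (letter g * letter g) by group, hinv g (hab g hg), one_mul,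
        mul_one] at this
    have hV : V i = A ⊔ V (i + 1) := by
      simp only [V, A, hdrop]
      rw [← Subgroup.closure_union]
      congr 1
      ext x
      simp only [List.mem_cons, Set.mem_union, Set.mem_insert_iff, Set.mem_singleton_iff,
        Set.mem_ofPred_eq, exists_eq_or_imp]
      constructor
      · rintro (h | h | h)
        exacts [Or.inl (Or.inl h.symm), Or.inl (Or.inr h.symm), Or.inr h]
      · rintro ((h | h) | h)
        exacts [Or.inl h.symm, Or.inr (Or.inl h.symm), Or.inr (Or.inr h)]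
    rw [hV]
    exact hA.to_sup_of_normal_right' (ih (i + 1) (by omega)) hnorm

theorem popB_eq (m : ℕ) : popB m = (bitsOf m).card := by
  have key : ∀ n, (Nat.rec (motive := fun _ => ℕ) 0
      (fun x r => cond (Nat.testBit m x) (Nat.succ r) r) n : ℕ) =
      (List.range n).countP (fun x => m.testBit x) := by
    intro n
    induction n with
    | zero => rfl
    | succ n ih =>
      rw [List.range_succ, List.countP_append, ← ih]
      show cond (Nat.testBit m n) _ _ = _
      cases h : Nat.testBit m n <;> simp [h]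
  rw [popB, key]
  exact (card_mask rfl).symm

theorem uUnion_testBit (b x : ℕ) :
    (uUnion b).testBit x = true ↔
      ∃ k < 5, b.testBit k = true ∧ (treeMask (uTree k)).testBit x = true := by
  have key : ∀ n, (Nat.rec (motive := fun _ => ℕ) 0
      (fun k r => cond (Nat.testBit b k) (Nat.lor (treeMask (uTree k)) r) r) n : ℕ).testBit x = true ↔
      ∃ k < n, b.testBit k = true ∧ (treeMask (uTree k)).testBit x = true := by
    intro n
    induction n with
    | zero => simp
    | succ n ih =>
      show (cond (Nat.testBit b n) _ _ : ℕ).testBit x = true ↔ _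
      cases h : Nat.testBit b n
      · rw [cond_false, ih]
        exact ⟨fun ⟨k, hk, h'⟩ => ⟨k, by omega, h'⟩, fun ⟨k, hk, h'⟩ =>
          ⟨k, by
            rcases Nat.lt_succ_iff_lt_or_eq.1 hk with e | e
            · exact e
            · subst e; rw [h] at h'; simp at h', h'⟩⟩
      · rw [cond_true, show ∀ u v : ℕ, Nat.lor u v = u ||| v from fun _ _ => rfl, Nat.testBit_or,
          Bool.or_eq_true, ih]
        constructor
        · rintro (h' | ⟨k, hk, h'⟩)
          exacts [⟨n, by omega, h, h'⟩, ⟨k, by omega, h'⟩]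
        · rintro ⟨k, hk, h'⟩
          rcases Nat.lt_succ_iff_lt_or_eq.1 hk with e | e
          exacts [Or.inr ⟨k, e, h'⟩, Or.inl (e ▸ h'.2)]
  exact key 5

theorem union_code : ∀ f : Fin 5 → Bool, ∃ b : Fin 32, ∀ k : Fin 5, (b : ℕ).testBit k = f k := by
  decide

theorem thirtyOne : ∀ k : Fin 5, (31 : ℕ).testBit k = true := by decide

/-- A set of 96 points invariant under the Sylow two-subgroup. -/
theorem u_invariant (M : Finset (Fin 416)) (hM : M.card = 96)
    (hinv : ∀ g ∈ uGroup, im g M = M) :
    M = sM 0 ∨ ∃ i < 3, M = bitsOf (badMask.getD i 0) := by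
  classical
  have h := uOrbit_ok
  simp only [uOrbitB, Bool.and_eq_true, allBelow_eq_true, Nat.beq_eq, forceN_eq, Bool.or_eq_true,
    Bool.not_eq_true'] at h
  obtain ⟨⟨htree, hcov⟩, hcand⟩ := h
  have hmove : ∀ k < 5, ∀ x y : Fin 416, (treeMask (uTree k)).testBit (x : ℕ) = true →
      (treeMask (uTree k)).testBit (y : ℕ) = true → x ∈ M → y ∈ M := by
    intro k hk x y hx hy hxM
    obtain ⟨g, hg, rfl⟩ := tree_move (htree k hk) uGroup
      (fun l hl => Subgroup.subset_closure ⟨l, hl, rfl⟩) hx hy
    rw [← hinv g hg]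
    exact Finset.mem_image_of_mem _ hxM
  obtain ⟨b, hb⟩ := union_code fun k =>
    decide (∃ x ∈ M, (treeMask (uTree (k : ℕ))).testBit (x : ℕ) = true)
  have hbits : bitsOf (uUnion b) = M := by
    ext y
    rw [mem_bitsOf, uUnion_testBit]
    constructor
    · rintro ⟨k, hk, hbk, hy⟩
      have := hb ⟨k, hk⟩
      rw [show ((⟨k, hk⟩ : Fin 5) : ℕ) = k from rfl, hbk] at this
      obtain ⟨x, hxM, hx⟩ := of_decide_eq_true this.symm
      exact hmove k hk x y hx hy hxM
    · intro hy
      have h31 := full_testBit.2 y.2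
      rw [← hcov, uUnion_testBit] at h31
      obtain ⟨k, hk, -, hyk⟩ := h31
      exact ⟨k, hk, (hb ⟨k, hk⟩).trans (decide_eq_true ⟨y, hy, hyk⟩), hyk⟩
  rcases hcand b b.2 with (h1 | h1) | h1
  · rw [popB_eq, hbits, hM] at h1
    exact absurd h1 (by decide)
  · left
    rw [← hbits, h1]
    rfl
  · right
    obtain ⟨m, hm, he⟩ := anyB_spec h1
    obtain ⟨i, hi, rfl⟩ := List.getElem_of_mem hm
    have hlen : badMask.length = 3 := by
      have h := badLink_ok
      simp only [badLinkB, Bool.and_eq_true, Nat.beq_eq] at h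
      exact h.1
    refine ⟨i, by omega, ?_⟩
    rw [← hbits, List.getD_eq_getElem _ _ hi, Nat.beq_eq.mp he]

/-! ### Orbits of the parabolic subgroup on the sets -/

theorem pLetters_mem : ∀ l ∈ pLetters, letter l ∈ setStab := by
  intro l hl
  have h := allB_spec fixSet_ok l hl
  rw [Bool.and_eq_true] at h
  refine mem_setStab.2 (sM_inj ?_)
  rw [← kap_spec, ← evalW_single]
  exact into_eq h.1 (setShape (by norm_num)) (setShape (by norm_num)) h.2

theorem pTree_move {T : List (ℕ × ℕ × ℕ)} (h : pTreeB T = true) {x y : Fin 1365}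
    (hx : (treeMask T).testBit (x : ℕ) = true) (hy : (treeMask T).testBit (y : ℕ) = true) :
    ∃ g ∈ setStab, kap g x = y := by
  simp only [pTreeB, Bool.and_eq_true, Nat.blt_eq, allBelow_eq_true] at h
  have reach : ∀ k < T.length, ∃ (r z : Fin 1365), (r : ℕ) = treeRoot T ∧
      (z : ℕ) = (T.getD k (0, 0, 0)).1 ∧ ∃ g ∈ setStab, kap g r = z := by
    intro k
    induction k using Nat.strong_induction_on with
    | _ k ih =>
      intro hk
      obtain ⟨hlt, hrest⟩ := h.2 k hk
      simp only [Bool.or_eq_true, Bool.and_eq_true, Nat.beq_eq, Nat.blt_eq] at hrest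
      rcases hrest with h0 | ⟨⟨hp, hmem⟩, hi⟩
      · subst h0
        exact ⟨⟨_, hlt⟩, ⟨_, hlt⟩, rfl, rfl, 1, one_mem _, kap_one _⟩
      obtain ⟨r, z, hr, hz, g, hg, hgz⟩ := ih _ hp (by omega)
      obtain ⟨l, hl, hle⟩ := anyB_spec hmem
      rw [Nat.beq_eq] at hle
      rw [hle] at hi
      refine ⟨r, ⟨_, hlt⟩, hr, rfl, letter l * g, mul_mem (pLetters_mem l hl) hg, sM_inj ?_⟩
      have hkn := allB_spec fixSet_ok l hl
      rw [Bool.and_eq_true] at hkn
      rw [kap_mul, hgz, ← kap_spec, ← evalW_single]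
      refine into_eq hkn.1 (setShape z.2) (setShape hlt) ?_
      rw [hz]
      exact hi
  have key : ∀ z : Fin 1365, (treeMask T).testBit (z : ℕ) = true →
      ∃ r : Fin 1365, (r : ℕ) = treeRoot T ∧ ∃ g ∈ setStab, kap g r = z := by
    intro z hz
    rw [treeMask_eq, testBit_listMask, List.mem_map] at hz
    obtain ⟨e, he, hez⟩ := hz
    obtain ⟨k, hk, rfl⟩ := List.getElem_of_mem he
    obtain ⟨r, w, hr, hw, g, hg, hgw⟩ := reach k hk
    rw [List.getD_eq_getElem _ _ hk, hez] at hw
    exact ⟨r, hr, g, hg, by rw [hgw]; exact Fin.ext hw⟩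
  obtain ⟨r, hr, g, hg, hgx⟩ := key x hx
  obtain ⟨r', hr', g', hg', hgy⟩ := key y hy
  obtain rfl : r = r' := Fin.ext (hr.trans hr'.symm)
  exact ⟨g' * g⁻¹, mul_mem hg' (inv_mem hg), by rw [kap_mul, ← hgx, kap_inv_kap, hgy]⟩

/-- The points of a mask among the sets. -/
noncomputable def setsOf (m : ℕ) : Finset (Fin 1365) :=
  Finset.univ.filter fun x => m.testBit (x : ℕ) = true

theorem card_setsOf {m c : ℕ} (h : (List.range 1365).countP (fun x => m.testBit x) = c) :
    (setsOf m).card = c := by
  rw [← h, List.countP_eq_length_filter, ← List.toFinset_card_of_nodup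
    ((List.nodup_range).filter _), ← Finset.card_image_of_injective _ Fin.val_injective]
  congr 1
  ext x
  simp only [Finset.mem_image, setsOf, Finset.mem_filter, Finset.mem_univ, true_and,
    List.mem_toFinset, List.mem_filter, List.mem_range]
  exact ⟨fun ⟨a, ha, e⟩ => e ▸ ⟨a.2, ha⟩, fun ⟨hx, hb⟩ => ⟨⟨x, hx⟩, hb, rfl⟩⟩

/-- The orbit of 320 sets. -/
noncomputable def nbSet : Finset (Fin 1365) := setsOf (treeMask pTree1)

theorem card_pTrees : (setsOf (treeMask pTree0)).card = 20 ∧ nbSet.card = 320 ∧
    (setsOf (treeMask pTree2)).card = 1024 :=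
  ⟨card_setsOf (by decide +kernel), card_setsOf (by decide +kernel), card_setsOf (by decide +kernel)⟩

theorem p_invariant (S : Finset (Fin 1365)) (h0 : (0 : Fin 1365) ∉ S)
    (hS : ∀ g ∈ setStab, ∀ x ∈ S, kap g x ∈ S) (hc : S.card = 320) : S = nbSet := by
  classical
  obtain ⟨c0, c1, c2⟩ := card_pTrees
  have h := pCover_ok
  simp only [pCoverB, Bool.and_eq_true, Nat.beq_eq] at h
  obtain ⟨⟨⟨hcov, -⟩, -⟩, -⟩ := h
  have hsplit : ∀ x : Fin 1365, x = 0 ∨ x ∈ setsOf (treeMask pTree0) ∨ x ∈ nbSet ∨
      x ∈ setsOf (treeMask pTree2) := by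
    intro x
    have hx : (Nat.lor 1 (Nat.lor (treeMask pTree0) (Nat.lor (treeMask pTree1)
        (treeMask pTree2)))).testBit (x : ℕ) = true := by
      rw [hcov, show Nat.sub (Nat.shiftLeft 1 1365) 1 = 2 ^ 1365 - 1 by rw [← Nat.one_shiftLeft]; rfl,
        Nat.testBit_two_pow_sub_one, decide_eq_true_eq]
      exact x.2
    rw [show ∀ u v : ℕ, Nat.lor u v = u ||| v from fun _ _ => rfl] at hx
    simp only [show ∀ u v : ℕ, Nat.lor u v = u ||| v from fun _ _ => rfl, Nat.testBit_or,
      Bool.or_eq_true] at hx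
    rcases hx with h | h | h | h
    · left
      refine Fin.ext ?_
      rw [Nat.testBit_one_eq_true_iff_self_eq_zero] at h
      simpa using h
    all_goals simp [setsOf, nbSet, h]
  have key : ∀ T : List (ℕ × ℕ × ℕ), pTreeB T = true →
      setsOf (treeMask T) ⊆ S ∨ ∀ x ∈ setsOf (treeMask T), x ∉ S := by
    intro T hT
    by_cases h : ∃ x ∈ setsOf (treeMask T), x ∈ S
    · obtain ⟨x, hxT, hxS⟩ := h
      refine Or.inl fun y hy => ?_
      obtain ⟨g, hg, rfl⟩ := pTree_move hT (Finset.mem_filter.1 hxT).2 (Finset.mem_filter.1 hy).2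
      exact hS g hg x hxS
    · exact Or.inr fun x hxT hxS => h ⟨x, hxT, hxS⟩
  have big : ¬ setsOf (treeMask pTree2) ⊆ S := fun hsub => by
    have := Finset.card_le_card hsub
    rw [c2, hc] at this
    omega
  have h2 := (key pTree2 pTree2_ok).resolve_left big
  rcases key pTree1 pTree1_ok with h1 | h1
  · exact (Finset.eq_of_subset_of_card_le h1 (by rw [hc]; exact c1.ge)).symm
  · have hsub : S ⊆ setsOf (treeMask pTree0) := fun x hx => by
      rcases hsplit x with e | e | e | e
      exacts [absurd (e ▸ hx) h0, e, absurd hx (h1 x e), absurd hx (h2 x e)]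
    have := Finset.card_le_card hsub
    rw [c0, hc] at this
    omega

end Cfsg.Agent.SuzRankThree
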