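import Cfsg.Agent.SuzRankThree.Sets

/-!
# Rank three groups on 1782 points with point stabiliser `G2(4)`: the model of the graph
-/

set_option autoImplicit false

namespace Cfsg.Agent.SuzRankThree

open MulAction

attribute [local irreducible] sM subA nbSet bitsOf kap

/-- The model point set. -/
abbrev V : Type := Option (Fin 416 ⊕ Fin 1365)

/-- The action of `G2(4)` on the model. -/
noncomputable def actFun (x : ↥grp) : V → V
  | none => none
  | some (.inl i) => some (.inl (ap x i))
  | some (.inr j) => some (.inr (kap x j))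

theorem actFun_mul (x y : ↥grp) (v : V) : actFun (x * y) v = actFun x (actFun y v) := by
  rcases v with _ | (i | j) <;> simp [actFun, ap_mul, kap_mul]

theorem actFun_one (v : V) : actFun 1 v = v := by
  rcases v with _ | (i | j) <;> simp [actFun, ap_one, kap_one]

/-- `G2(4)` on the model. -/
noncomputable def actV : ↥grp →* Equiv.Perm V where
  toFun x := ⟨actFun x, actFun x⁻¹, fun v => by rw [← actFun_mul, inv_mul_cancel, actFun_one],
    fun v => by rw [← actFun_mul, mul_inv_cancel, actFun_one]⟩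
  map_one' := Equiv.ext actFun_one
  map_mul' x y := Equiv.ext (actFun_mul x y)

theorem actV_apply (x : ↥grp) (v : V) : actV x v = actFun x v := rfl

/-- The relation of the model. -/
def Rel : V → V → Prop
  | none, none => False
  | none, some (.inl _) => True
  | none, some (.inr _) => False
  | some (.inl _), none => True
  | some (.inr _), none => False
  | some (.inl i), some (.inl j) => adjG i j
  | some (.inl i), some (.inr j) => i ∈ sM j
  | some (.inr j), some (.inl i) => i ∈ sM j
  | some (.inr j), some (.inr j') => ∃ x : ↥grp, kap x 0 = j ∧ kap x⁻¹ j' ∈ nbSet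

section Orbit

variable {H : Type*} [Group H] {β : Type*} [MulAction H β]

theorem index_eq_range [Finite H] (f : ↥grp →* H) (b : β) (S : Subgroup ↥grp)
    (hS : ∀ x, x ∈ S ↔ f x • b = b) :
    S.index = (Set.range fun x => f x • b).ncard := by
  rw [Subgroup.index_eq_card, ← Nat.card_coe_set_eq]
  refine Nat.card_congr (Equiv.ofBijective
    (Quotient.lift (fun x : ↥grp => (⟨f x • b, x, rfl⟩ : Set.range fun x => f x • b))
      fun u v huv => ?_) ⟨?_, ?_⟩)
  · have h := (hS _).1 (QuotientGroup.leftRel_apply.1 huv)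
    rw [map_mul, map_inv, mul_smul, inv_smul_eq_iff] at h
    exact Subtype.ext h.symm
  · rintro ⟨u⟩ ⟨v⟩ he
    refine QuotientGroup.eq.2 ((hS _).2 ?_)
    rw [map_mul, map_inv, mul_smul, inv_smul_eq_iff]
    exact (congrArg Subtype.val he).symm
  · rintro ⟨y, x, rfl⟩
    exact ⟨QuotientGroup.mk x, rfl⟩

end Orbit

/-- The stabiliser of a point among the 416. -/
noncomputable def ptStab (q : Fin 416) : Subgroup ↥grp where
  carrier := {x | ap x q = q}
  one_mem' := ap_one q
  mul_mem' := fun {x y} hx hy => by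
    show ap (x * y) q = q
    rw [ap_mul, show ap y q = q from hy]
    exact hx
  inv_mem' := fun {x} hx => by
    show ap x⁻¹ q = q
    conv_lhs => rw [← show ap x q = q from hx]
    rw [ap_inv_ap]

theorem ptStab_index (q : Fin 416) : (ptStab q).index = 416 := by
  rw [index_eq_range (H := Equiv.Perm (Fin 416)) grp.subtype q (ptStab q) fun _ => Iff.rfl,
    show (Set.range fun x : ↥grp => grp.subtype x • q) = Set.univ from
      Set.eq_univ_of_forall fun r => by
        obtain ⟨g, hg⟩ := exists_ap_eq q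
        obtain ⟨k, hk⟩ := exists_ap_eq r
        exact ⟨k * g⁻¹, show ap (k * g⁻¹) q = r by rw [ap_mul, ← hg, ap_inv_ap, hk]⟩,
    Set.ncard_univ, Nat.card_fin]

/-- A group acting like the Suzuki group on 1782 points. -/
structure Setting (G : Type*) [Group G] (Ω : Type*) [MulAction G Ω] [Fintype Ω] where
  card : Fintype.card Ω = 1782
  trans : IsPretransitive G Ω
  faith : ∀ g : G, (∀ ω : Ω, g • ω = ω) → g = 1
  a : Ω
  b : Ω
  c : Ω
  f : ↥grp →* G
  inj : Function.Injective f
  mem_stab : ∀ g : G, g • a = a ↔ ∃ x, f x = g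
  orb_b : (orbit (stabilizer G a) b).ncard = 416
  orb_c : (orbit (stabilizer G a) c).ncard = 1365

variable {G : Type*} [Group G] {Ω : Type*} [MulAction G Ω] [Fintype Ω]

/-- A faithful group on a finite set is finite. -/
theorem Setting.finite (S : Setting G Ω) : Finite G := by
  refine Finite.of_injective (fun (g : G) (ω : Ω) => g • ω) fun g h e => ?_
  refine (inv_mul_eq_one.1 (S.faith (h⁻¹ * g) fun ω => ?_)).symm
  rw [mul_smul, show g • ω = h • ω from congrFun e ω, inv_smul_smul]

theorem Setting.card_group (S : Setting G Ω) : Nat.card G = 1782 * 251596800 := by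
  classical
  have := S.finite
  have := S.trans
  have h1 : Nat.card (orbit G S.a) * Nat.card (stabilizer G S.a) = Nat.card G := by
    rw [Nat.card_congr (orbitEquivQuotientStabilizer G S.a)]
    exact (Subgroup.card_eq_card_quotient_mul_card_subgroup _).symm
  have h2 : Nat.card (orbit G S.a) = 1782 := by
    rw [Nat.card_coe_set_eq, orbit_eq_univ, Set.ncard_univ, Nat.card_eq_fintype_card, S.card]
  have h3 : Nat.card (stabilizer G S.a) = 251596800 := by
    rw [show stabilizer G S.a = S.f.range from Subgroup.ext fun g => by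
      rw [mem_stabilizer_iff, S.mem_stab, MonoidHom.mem_range],
      ← Nat.card_congr (MonoidHom.ofInjective S.inj).toEquiv, card_grp]
  rw [← h1, h2, h3]

/-- The group is a group of automorphisms of the model, transitive, with point stabiliser the
standard one. -/
theorem Setting.exists_rep (S : Setting G Ω) :
    ∃ ρ : G →* Equiv.Perm V, Function.Injective ρ ∧
      (∀ g u v, Rel (ρ g u) (ρ g v) ↔ Rel u v) ∧
      (∀ x, ρ (S.f x) = actV x) ∧ (∀ g, ρ g none = none → ∃ x, g = S.f x) ∧
      (∀ v, ∃ g, ρ g none = v) := by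
  classical
  have := S.finite
  have := S.trans
  obtain ⟨hΩ, -, hfaith, a, b, c, f, hfi, hstab, hb, hc⟩ := S
  dsimp only
  let Adj : Ω → Ω → Prop := fun u v => ∃ g : G, g • a = u ∧ g • b = v
  have horb : ∀ ω : Ω, orbit (stabilizer G a) ω = Set.range fun x => f x • ω := by
    intro ω
    ext η
    constructor
    · rintro ⟨⟨g, hg⟩, rfl⟩
      obtain ⟨x, rfl⟩ := (hstab g).1 hg
      exact ⟨x, rfl⟩
    · rintro ⟨x, rfl⟩
      exact ⟨⟨f x, (hstab _).2 ⟨x, rfl⟩⟩, rfl⟩
  have hfa : ∀ x, f x • a = a := fun x => (hstab _).2 ⟨x, rfl⟩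
  -- the three orbits
  have horba : orbit (stabilizer G a) a = {a} := Set.Subset.antisymm
    (by rintro _ ⟨⟨g, hg⟩, rfl⟩; exact hg) (Set.singleton_subset_iff.2 (mem_orbit_self a))
  have hna : ∀ {x : Ω}, (orbit (stabilizer G a) x).ncard ≠ 1 →
      a ∉ orbit (stabilizer G a) x := fun hx h => hx (by
    rw [← orbit_eq_iff.2 h, horba, Set.ncard_singleton])
  have hdis : ∀ {z}, z ∈ orbit (stabilizer G a) b → z ∉ orbit (stabilizer G a) c := by
    intro z hz hz'
    rw [orbit_eq_iff.2 hz |>.symm, orbit_eq_iff.2 hz'] at hb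
    omega
  have hcover : ∀ x, x ≠ a → x ∈ orbit (stabilizer G a) b ∨ x ∈ orbit (stabilizer G a) c := by
    have hu : insert a (orbit (stabilizer G a) b ∪ orbit (stabilizer G a) c) = Set.univ := by
      refine Set.eq_of_subset_of_ncard_le (Set.subset_univ _) ?_ (Set.toFinite _)
      rw [Set.ncard_insert_of_notMem (fun h => h.elim (hna (by rw [hb]; norm_num))
          (hna (by rw [hc]; norm_num))) (Set.toFinite _),
        Set.ncard_union_eq (Set.disjoint_left.2 fun z h1 h2 => hdis h1 h2) (Set.toFinite _)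
          (Set.toFinite _), hb, hc, Set.ncard_univ, Nat.card_eq_fintype_card, hΩ]
    intro x hx
    have hmem : x ∈ insert a (orbit (stabilizer G a) b ∪ orbit (stabilizer G a) c) := by
      rw [hu]; trivial
    exact (Set.mem_insert_iff.1 hmem).resolve_left hx
  -- adjacency
  have hAa : ∀ y, Adj a y ↔ y ∈ orbit (stabilizer G a) b := fun y =>
    ⟨fun ⟨g, hg, hy⟩ => ⟨⟨g, hg⟩, hy⟩, fun ⟨⟨g, hg⟩, hy⟩ => ⟨g, hg, hy⟩⟩
  have hAg : ∀ (g : G) x y, Adj (g • x) (g • y) ↔ Adj x y := fun g x y =>
    ⟨fun ⟨k, h1, h2⟩ => ⟨g⁻¹ * k, by rw [mul_smul, h1, inv_smul_smul],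
      by rw [mul_smul, h2, inv_smul_smul]⟩,
    fun ⟨k, h1, h2⟩ => ⟨g * k, by rw [mul_smul, h1], by rw [mul_smul, h2]⟩⟩
  have hout : ∀ x, (Finset.univ.filter fun y => Adj x y).card = 416 := by
    intro x
    obtain ⟨g, rfl⟩ := exists_smul_eq G a x
    have h1 : (Finset.univ.filter fun y => Adj (g • a) y) =
        (Finset.univ.filter fun y => Adj a y).image (g • ·) := by
      ext y
      simp only [Finset.mem_filter, Finset.mem_univ, true_and, Finset.mem_image]
      exact ⟨fun h => ⟨g⁻¹ • y, (hAg g a _).1 (by rwa [smul_inv_smul]), smul_inv_smul g y⟩,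
        fun ⟨z, hz, e⟩ => e ▸ (hAg g a z).2 hz⟩
    rw [h1, Finset.card_image_of_injective _ (MulAction.injective g), ← hb,
      Set.ncard_eq_toFinset_card']
    congr 1
    ext y
    simp [hAa]
  have hne : ∀ x y, Adj x y → x ≠ y := by
    rintro x y ⟨g, rfl, rfl⟩ he
    have hab : a = b := MulAction.injective g he
    rw [← hab, horba, Set.ncard_singleton] at hb
    omega
  have hin : (Finset.univ.filter fun x => Adj x a).card = 416 := by
    have hconst : ∀ y, (Finset.univ.filter fun x => Adj x y).card =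
        (Finset.univ.filter fun x => Adj x a).card := by
      intro y
      obtain ⟨g, rfl⟩ := exists_smul_eq G a y
      have h1 : (Finset.univ.filter fun x => Adj x (g • a)) =
          (Finset.univ.filter fun x => Adj x a).image (g • ·) := by
        ext x
        simp only [Finset.mem_filter, Finset.mem_univ, true_and, Finset.mem_image]
        exact ⟨fun h => ⟨g⁻¹ • x, (hAg g _ a).1 (by rwa [smul_inv_smul]), smul_inv_smul g x⟩,
          fun ⟨z, hz, e⟩ => e ▸ (hAg g z a).2 hz⟩
      rw [h1, Finset.card_image_of_injective _ (MulAction.injective g)]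
    have hdc : ∑ x : Ω, (Finset.univ.filter fun y => Adj x y).card =
        ∑ y : Ω, (Finset.univ.filter fun x => Adj x y).card := by
      simp only [Finset.card_filter]
      exact Finset.sum_comm
    rw [Finset.sum_congr rfl fun x _ => hout x, Finset.sum_congr rfl fun y _ => hconst y,
      Finset.sum_const, Finset.sum_const, Finset.card_univ, hΩ, smul_eq_mul, smul_eq_mul] at hdc
    omega
  have hsymm : ∀ x y, Adj x y → Adj y x := by
    have hsa : ∀ y, Adj y a → Adj a y := by
      intro y hy
      have hinv : ∀ z ∈ orbit (stabilizer G a) y, Adj z a := by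
        rintro _ ⟨⟨g, hg⟩, rfl⟩
        have := (hAg g y a).2 hy
        rwa [show g • a = a from hg] at this
      rcases hcover y (hne y a hy) with h | h
      · exact (hAa y).2 h
      · exfalso
        have h1 : (orbit (stabilizer G a) c).ncard ≤ 416 := by
          rw [← orbit_eq_iff.2 h, ← hin, ← Set.ncard_coe_finset]
          exact Set.ncard_le_ncard (fun z hz => Finset.mem_coe.2
            (Finset.mem_filter.2 ⟨Finset.mem_univ _, hinv z hz⟩)) (Finset.finite_toSet _)
        omega
    intro x y h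
    obtain ⟨g, rfl⟩ := exists_smul_eq G a y
    rw [← smul_inv_smul g x] at h ⊢
    exact (hAg g a _).2 (hsa _ ((hAg g _ a).1 h))
  -- the orbit of 416 points
  let K1 : Subgroup ↥grp := (stabilizer G b).comap f
  have hK1 : K1.index = 416 := by
    rw [index_eq_range f b K1 fun x => Iff.rfl, ← horb b, hb]
  obtain ⟨q0, hq0⟩ := exists_fixed_point K1 hK1
  have hK1eq : K1 = ptStab q0 := Subgroup.eq_of_le_of_card_ge (fun x hx => hq0 x hx) (by
    have e1 := K1.card_mul_index
    have e2 := (ptStab q0).card_mul_index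
    rw [hK1] at e1
    rw [ptStab_index] at e2
    omega)
  obtain ⟨g0, hg0⟩ := exists_ap_eq q0
  set b1 : Ω := f g0⁻¹ • b with hb1
  have hb1stab : ∀ x, f x • b1 = b1 ↔ ap x 0 = 0 := by
    intro x
    have : f x • b1 = b1 ↔ f (g0 * x * g0⁻¹) • b = b := by
      rw [hb1, ← (MulAction.injective (f g0)).eq_iff]
      simp only [map_mul, map_inv, mul_smul, smul_inv_smul]
    rw [this, show (f (g0 * x * g0⁻¹) • b = b) ↔ g0 * x * g0⁻¹ ∈ K1 from Iff.rfl, hK1eq]
    show ap (g0 * x * g0⁻¹) q0 = q0 ↔ _
    rw [ap_mul, ap_mul, ← hg0, ap_inv_ap]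
    exact (Equiv.injective (g0 : Equiv.Perm (Fin 416))).eq_iff
  let φ1 : Fin 416 → Ω := fun q => f (exists_ap_eq q).choose • b1
  have hφ1 : ∀ x : ↥grp, φ1 (ap x 0) = f x • b1 := by
    intro x
    have h := (exists_ap_eq (ap x 0)).choose_spec
    set t := (exists_ap_eq (ap x 0)).choose
    show f t • b1 = f x • b1
    have h2 : f (x⁻¹ * t) • b1 = b1 := (hb1stab _).2 (by rw [ap_mul, h, ap_inv_ap])
    rwa [map_mul, map_inv, mul_smul, inv_smul_eq_iff] at h2
  have eq1 : ∀ (x : ↥grp) q, φ1 (ap x q) = f x • φ1 q := by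
    intro x q
    obtain ⟨t, rfl⟩ := exists_ap_eq q
    rw [← ap_mul, hφ1, hφ1, map_mul, mul_smul]
  have inj1 : Function.Injective φ1 := by
    intro p q he
    obtain ⟨s, rfl⟩ := exists_ap_eq p
    obtain ⟨t, rfl⟩ := exists_ap_eq q
    rw [hφ1, hφ1] at he
    have h2 : f (t⁻¹ * s) • b1 = b1 := by
      rw [map_mul, map_inv, mul_smul, inv_smul_eq_iff, he]
    have h3 := (hb1stab _).1 h2
    rw [ap_mul] at h3
    have h4 := congrArg (ap t) h3
    rw [ap_ap_inv] at h4
    exact h4
  have hb1mem : b1 ∈ orbit (stabilizer G a) b := by rw [horb]; exact ⟨_, rfl⟩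
  have hO1 : ∀ ω, ω ∈ orbit (stabilizer G a) b ↔ ∃ q, φ1 q = ω := by
    intro ω
    rw [← orbit_eq_iff.2 hb1mem, horb]
    exact ⟨fun ⟨x, hx⟩ => ⟨_, (hφ1 x).trans hx⟩, fun ⟨q, hq⟩ => ⟨_, hq⟩⟩
  have hA1 : ∀ q, Adj a (φ1 q) := fun q => (hAa _).2 ((hO1 _).2 ⟨q, rfl⟩)
  have hmove : ∀ (x : ↥grp) u v, Adj (f x • u) (f x • v) ↔ Adj u v := fun x => hAg (f x)
  -- adjacency inside the orbit of 416 points
  let S1 : Fin 416 → Finset (Fin 416) := fun q => Finset.univ.filter fun r => Adj (φ1 q) (φ1 r)
  have hS1 : ∀ (x : ↥grp) q, S1 (ap x q) = (S1 q).image (ap x) := by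
    intro x q
    ext r
    simp only [S1, Finset.mem_filter, Finset.mem_univ, true_and, Finset.mem_image]
    constructor
    · intro h
      refine ⟨ap x⁻¹ r, ?_, ap_ap_inv x r⟩
      rw [← hmove x, ← eq1, ← eq1, ap_ap_inv]
      exact h
    · rintro ⟨s, hs, rfl⟩
      rw [eq1, eq1, hmove]
      exact hs
  obtain ⟨hlam, hlam100⟩ := invariant_cases (S1 0)
    (fun h => hne _ _ (Finset.mem_filter.1 h).2 rfl) (fun g hg x hx => by
      have hg0 : ap g 0 = 0 := hg 0 (by simp)
      have := hS1 g 0
      rw [hg0] at this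
      rw [this]
      exact Finset.mem_image_of_mem _ hx)
  have hlamq : ∀ q, (S1 q).card = (S1 0).card := fun q => by
    obtain ⟨t, rfl⟩ := exists_ap_eq q
    rw [hS1, Finset.card_image_of_injective _ (show Function.Injective (ap t) from Equiv.injective _)]
  let O2 : Finset Ω := Finset.univ.filter fun ω => ω ∈ orbit (stabilizer G a) c
  have hO2card : O2.card = 1365 := by
    rw [← hc, Set.ncard_eq_toFinset_card']
    congr 1
    ext z
    simp [O2]
  have hsplit : ∀ ω, (Finset.univ.filter fun η => Adj ω η).card =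
      (if Adj ω a then 1 else 0) + (Finset.univ.filter fun r => Adj ω (φ1 r)).card +
        (O2.filter fun η => Adj ω η).card := by
    intro ω
    have e : (Finset.univ.filter fun η => Adj ω η) =
        (({a} : Finset Ω).filter fun η => Adj ω η) ∪
          ((Finset.univ.filter fun r => Adj ω (φ1 r)).image φ1 ∪
            O2.filter fun η => Adj ω η) := by
      ext η
      simp only [Finset.mem_filter, Finset.mem_univ, true_and, Finset.mem_union, Finset.mem_singleton,
        Finset.mem_image, O2]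
      constructor
      · intro h
        by_cases ha : η = a
        · exact Or.inl ⟨ha, h⟩
        rcases hcover η ha with h' | h'
        · obtain ⟨q, rfl⟩ := (hO1 η).1 h'
          exact Or.inr (Or.inl ⟨q, h, rfl⟩)
        · exact Or.inr (Or.inr ⟨h', h⟩)
      · rintro (⟨-, h⟩ | ⟨q, h, rfl⟩ | ⟨-, h⟩) <;> exact h
    rw [e, Finset.card_union_of_disjoint, Finset.card_union_of_disjoint,
      Finset.card_image_of_injective _ inj1, Finset.filter_singleton, ← add_assoc]
    · split_ifs <;> simp
    · rw [Finset.disjoint_left]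
      intro η hη hη'
      obtain ⟨q, -, rfl⟩ := Finset.mem_image.1 hη
      exact hdis ((hO1 _).2 ⟨q, rfl⟩) (Finset.mem_filter.1 (Finset.mem_filter.1 hη').1).2
    · rw [Finset.disjoint_left]
      intro η hη hη'
      obtain ⟨rfl, -⟩ : η = a ∧ Adj ω η := by simpa using hη
      rcases Finset.mem_union.1 hη' with h | h
      · obtain ⟨q, -, hq⟩ := Finset.mem_image.1 h
        exact hna (by rw [hb]; norm_num) ((hO1 η).2 ⟨q, hq⟩)
      · exact hna (by rw [hc]; norm_num) (Finset.mem_filter.1 (Finset.mem_filter.1 h).1).2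
  have hside1 : ∀ q, (O2.filter fun η => Adj (φ1 q) η).card = 415 - (S1 0).card := by
    intro q
    have := hsplit (φ1 q)
    rw [hout, if_pos (hsymm _ _ (hA1 q))] at this
    have h2 := hlamq q
    simp only [S1] at h2 ⊢
    omega
  have hna2 : ∀ η ∈ O2, ¬ Adj η a := fun η hη h => by
    exact hdis ((hAa η).1 (hsymm _ _ h)) (Finset.mem_filter.1 hη).2
  set μ := (Finset.univ.filter fun r => Adj c (φ1 r)).card with hμ
  have hmu : ∀ η ∈ O2, (Finset.univ.filter fun r => Adj η (φ1 r)).card = μ := by
    intro η hη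
    obtain ⟨⟨g, hg⟩, rfl⟩ := (Finset.mem_filter.1 hη).2
    obtain ⟨x, rfl⟩ := (hstab g).1 hg
    rw [hμ, ← Finset.card_image_of_injective
      (Finset.univ.filter fun r => Adj c (φ1 r)) (Equiv.injective (x : Equiv.Perm (Fin 416)))]
    congr 1
    ext r
    simp only [Finset.mem_filter, Finset.mem_univ, true_and, Finset.mem_image]
    constructor
    · intro h
      refine ⟨ap x⁻¹ r, ?_, ap_ap_inv x r⟩
      rw [← hmove x, ← eq1, ap_ap_inv]
      exact h
    · rintro ⟨s, hs, rfl⟩
      show Adj (f x • c) (φ1 (ap x s))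
      rw [eq1, hmove]
      exact hs
  have hcount : 416 * (415 - (S1 0).card) = 1365 * μ := by
    have h := Finset.sum_card_bipartiteAbove_eq_sum_card_bipartiteBelow
      (s := (Finset.univ : Finset (Fin 416))) (t := O2) (fun q η => Adj (φ1 q) η)
    simp only [Finset.bipartiteAbove, Finset.bipartiteBelow] at h
    have e2 : ∀ η ∈ O2, (Finset.univ.filter fun q => Adj (φ1 q) η).card = μ := fun η hη => by
      refine (congrArg Finset.card ?_).trans (hmu η hη)
      exact Finset.filter_congr fun r _ => ⟨hsymm _ _, hsymm _ _⟩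
    rw [Finset.sum_const_nat fun q _ => hside1 q, Finset.sum_const_nat e2, hO2card,
      Finset.card_univ, Fintype.card_fin] at h
    exact h
  have h415 : (S1 0).card ≠ 415 := by
    intro h
    have hμ0 : μ = 0 := by omega
    let B : Ω → Finset Ω := fun ω => insert ω (Finset.univ.filter fun η => Adj ω η)
    have hB : ∀ ω, (B ω).card = 417 := fun ω => by
      rw [Finset.card_insert_of_notMem (fun hm => hne _ _ (Finset.mem_filter.1 hm).2 rfl), hout]
    have hBa : ∀ q, B (φ1 q) = B a := by
      intro q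
      refine Finset.eq_of_subset_of_card_le (fun η hη => ?_) (by rw [hB, hB])
      simp only [B, Finset.mem_insert, Finset.mem_filter, Finset.mem_univ, true_and] at hη ⊢
      rcases hη with rfl | hη
      · exact Or.inr (hA1 q)
      by_cases ha : η = a
      · exact Or.inl ha
      rcases hcover η ha with h' | h'
      · exact Or.inr ((hAa η).2 h')
      · exfalso
        have h0 := hside1 q
        rw [h] at h0
        exact (Finset.card_eq_zero.1 (h0.trans (Nat.sub_self 415)) ▸
          Finset.notMem_empty η) (Finset.mem_filter.2 ⟨Finset.mem_filter.2 ⟨Finset.mem_univ _, h'⟩, hη⟩)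
    have hBadj : ∀ u v, Adj u v → B u = B v := by
      rintro u v ⟨g, rfl, rfl⟩
      have hBg : ∀ ω, B (g • ω) = (B ω).image (g • ·) := by
        intro ω
        refine (Finset.eq_of_subset_of_card_le (fun η hη => ?_) ?_).symm
        · obtain ⟨z, hz, rfl⟩ := Finset.mem_image.1 hη
          simp only [B, Finset.mem_insert, Finset.mem_filter, Finset.mem_univ, true_and] at hz ⊢
          rcases hz with rfl | hz
          exacts [Or.inl rfl, Or.inr ((hAg g ω z).2 hz)]
        · rw [Finset.card_image_of_injective _ (MulAction.injective g), hB, hB]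
      obtain ⟨q, hq⟩ := (hO1 b).1 (mem_orbit_self b)
      rw [hBg, hBg, ← hq, hBa]
    have hfib : ∀ z ∈ Finset.univ.image B, (Finset.univ.filter fun ω => B ω = z).card = 417 := by
      intro z hz
      obtain ⟨w, -, rfl⟩ := Finset.mem_image.1 hz
      rw [← hB w]
      congr 1
      ext ω
      simp only [Finset.mem_filter, Finset.mem_univ, true_and]
      constructor
      · intro he
        rw [← he]
        exact Finset.mem_insert_self _ _
      · intro hω
        rcases Finset.mem_insert.1 hω with rfl | hω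
        · rfl
        · exact (hBadj _ _ (Finset.mem_filter.1 hω).2).symm
    have h1 := Finset.card_eq_sum_card_image B (Finset.univ : Finset Ω)
    rw [Finset.sum_congr rfl hfib, Finset.sum_const, Finset.card_univ, hΩ, smul_eq_mul] at h1
    omega
  have h100 : (S1 0).card = 100 ∧ μ = 96 := by
    rcases hlam with h | h | h | h <;> rw [h] at hcount <;> first | omega | exact absurd h h415
  have hS10 : S1 0 = subA := hlam100 h100.1
  have hAdj11 : ∀ q r, Adj (φ1 q) (φ1 r) ↔ adjG q r := by
    intro q r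
    obtain ⟨t, rfl⟩ := exists_ap_eq q
    rw [← ap_ap_inv t r, eq1, eq1, hmove, adjG_smul, ← subA_iff, ← hS10]
    simp [S1]
  -- the orbit of 1365 points
  let K2 : Subgroup ↥grp := (stabilizer G c).comap f
  have hK2 : K2.index = 1365 := by
    rw [index_eq_range f c K2 fun x => Iff.rfl, ← horb c, hc]
  have : Fact (Nat.Prime 2) := ⟨Nat.prime_two⟩
  obtain ⟨g1, hg1⟩ := exists_conj_le K2 (by rw [hK2]; norm_num) uGroup uGroup_pgroup
  set c1 : Ω := f g1⁻¹ • c with hc1
  have hc1mem : c1 ∈ orbit (stabilizer G a) c := by rw [horb]; exact ⟨_, rfl⟩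
  let L : Subgroup ↥grp := (stabilizer G c1).comap f
  have hLindex : L.index = 1365 := by
    rw [index_eq_range f c1 L fun x => Iff.rfl, ← horb c1, orbit_eq_iff.2 hc1mem, hc]
  have hLU : ∀ x ∈ uGroup, x ∈ L := by
    intro x hx
    have h2 : f (g1 * x * g1⁻¹) • c = c := hg1 x hx
    show f x • c1 = c1
    rw [map_mul, map_mul, mul_smul, mul_smul, ← hc1, smul_eq_iff_eq_inv_smul] at h2
    rw [h2, hc1, map_inv]
  set M := Finset.univ.filter fun r => Adj c1 (φ1 r) with hM
  have hMcard : M.card = 96 := (hmu c1 (Finset.mem_filter.2 ⟨Finset.mem_univ _, hc1mem⟩)).trans h100.2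
  have hMinv : ∀ x ∈ L, im x M = M := by
    intro x hx
    refine Finset.eq_of_subset_of_card_le (fun r hr => ?_) (by rw [card_im])
    obtain ⟨s, hs, rfl⟩ := Finset.mem_image.1 hr
    rw [hM, Finset.mem_filter] at hs ⊢
    refine ⟨Finset.mem_univ _, ?_⟩
    rw [eq1, ← show f x • c1 = c1 from hx, hmove]
    exact hs.2
  have hM0 : M = sM 0 := by
    rcases u_invariant M hMcard fun x hx => hMinv x (hLU x hx) with h | ⟨i, hi, h⟩
    · exact h
    · exact absurd (fun x hx => by rw [← h]; exact hMinv x hx)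
        (bad_not_invariant hLindex hi (h ▸ hMcard))
  have hLeq : L = setStab := Subgroup.eq_of_le_of_card_ge
    (fun x hx => mem_setStab.2 (sM_inj (by rw [← kap_spec, ← hM0]; exact hMinv x hx))) (by
    have e1 := L.card_mul_index
    have e2 := setStab.card_mul_index
    rw [hLindex] at e1
    rw [setStab_index] at e2
    omega)
  have hc1stab : ∀ x, f x • c1 = c1 ↔ kap x 0 = 0 := fun x => by
    rw [← mem_setStab, ← hLeq]
    rfl
  let φ2 : Fin 1365 → Ω := fun j => f (exists_kap_eq j).choose • c1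
  have hφ2 : ∀ x : ↥grp, φ2 (kap x 0) = f x • c1 := by
    intro x
    have h := (exists_kap_eq (kap x 0)).choose_spec
    set t := (exists_kap_eq (kap x 0)).choose
    show f t • c1 = f x • c1
    have h2 : f (x⁻¹ * t) • c1 = c1 := (hc1stab _).2 (by rw [kap_mul, h, kap_inv_kap])
    rwa [map_mul, map_inv, mul_smul, inv_smul_eq_iff] at h2
  have eq2 : ∀ (x : ↥grp) j, φ2 (kap x j) = f x • φ2 j := by
    intro x j
    obtain ⟨t, rfl⟩ := exists_kap_eq j
    rw [← kap_mul, hφ2, hφ2, map_mul, mul_smul]
  have inj2 : Function.Injective φ2 := by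
    intro i j he
    obtain ⟨s, rfl⟩ := exists_kap_eq i
    obtain ⟨t, rfl⟩ := exists_kap_eq j
    rw [hφ2, hφ2] at he
    have h2 : f (t⁻¹ * s) • c1 = c1 := by
      rw [map_mul, map_inv, mul_smul, inv_smul_eq_iff, he]
    have h3 := (hc1stab _).1 h2
    have h4 := congrArg (kap t) h3
    rw [← kap_mul, mul_inv_cancel_left] at h4
    exact h4
  have hO2 : ∀ ω, ω ∈ orbit (stabilizer G a) c ↔ ∃ j, φ2 j = ω := by
    intro ω
    rw [← orbit_eq_iff.2 hc1mem, horb]
    exact ⟨fun ⟨x, hx⟩ => ⟨_, (hφ2 x).trans hx⟩, fun ⟨j, hj⟩ => ⟨_, hj⟩⟩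
  have hAdj21 : ∀ j r, Adj (φ2 j) (φ1 r) ↔ r ∈ sM j := by
    intro j r
    obtain ⟨t, rfl⟩ := exists_kap_eq j
    rw [← ap_ap_inv t r, hφ2, eq1, hmove, ← kap_spec, im,
      Function.Injective.mem_finset_image (show Function.Injective (ap t) from Equiv.injective _), ← hM0]
    simp [hM]
  -- adjacency inside the orbit of 1365 points
  set N := Finset.univ.filter fun j => Adj c1 (φ2 j) with hN
  have hNcard : N.card = 320 := by
    have := hsplit c1
    have hc1O : c1 ∈ O2 := Finset.mem_filter.2 ⟨Finset.mem_univ _, hc1mem⟩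
    rw [hout, if_neg (hna2 c1 hc1O), hmu c1 hc1O, h100.2] at this
    have e : (O2.filter fun η => Adj c1 η) = N.image φ2 := by
      ext η
      simp only [O2, hN, Finset.mem_filter, Finset.mem_univ, true_and, Finset.mem_image]
      constructor
      · rintro ⟨h1, h2⟩
        obtain ⟨j, rfl⟩ := (hO2 η).1 h1
        exact ⟨j, h2, rfl⟩
      · rintro ⟨j, hj, rfl⟩
        exact ⟨(hO2 _).2 ⟨j, rfl⟩, hj⟩
    rw [e, Finset.card_image_of_injective _ inj2] at this
    omega
  have hNeq : N = nbSet := by
    refine p_invariant N (fun h => ?_) (fun x hx j hj => ?_) hNcard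
    · rw [hN, Finset.mem_filter] at h
      refine hne _ _ h.2 ?_
      have := hφ2 1
      rw [kap_one, map_one, one_smul] at this
      exact this.symm
    · rw [hN, Finset.mem_filter] at hj ⊢
      refine ⟨Finset.mem_univ _, ?_⟩
      rw [eq2, ← (hc1stab x).2 (mem_setStab.1 hx), hmove]
      exact hj.2
  have hAdj22 : ∀ i j, Adj (φ2 i) (φ2 j) ↔ ∃ x, kap x 0 = i ∧ kap x⁻¹ j ∈ nbSet := by
    have key : ∀ (x : ↥grp) j, Adj (φ2 (kap x 0)) (φ2 j) ↔ kap x⁻¹ j ∈ nbSet := by
      intro x j
      rw [← hNeq, hN, Finset.mem_filter, hφ2]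
      simp only [Finset.mem_univ, true_and]
      rw [eq2, map_inv]
      conv_rhs => rw [← hmove x, smul_inv_smul]
    intro i j
    constructor
    · intro h
      obtain ⟨x, rfl⟩ := exists_kap_eq i
      exact ⟨x, rfl, (key x j).1 h⟩
    · rintro ⟨x, rfl, h⟩
      exact (key x j).2 h
  -- the model
  let φ : V → Ω := fun v => match v with
    | none => a
    | some (.inl i) => φ1 i
    | some (.inr j) => φ2 j
  have hφbij : Function.Bijective φ := by
    rw [Fintype.bijective_iff_surjective_and_card]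
    refine ⟨fun ω => ?_, ?_⟩
    · by_cases ha : ω = a
      · exact ⟨none, ha.symm⟩
      rcases hcover ω ha with h | h
      · obtain ⟨q, hq⟩ := (hO1 ω).1 h
        exact ⟨some (.inl q), hq⟩
      · obtain ⟨j, hj⟩ := (hO2 ω).1 h
        exact ⟨some (.inr j), hj⟩
    · rw [hΩ, Fintype.card_option, Fintype.card_sum, Fintype.card_fin, Fintype.card_fin]
  let σ : V ≃ Ω := Equiv.ofBijective φ hφbij
  have hRel : ∀ u v, Rel u v ↔ Adj (σ u) (σ v) := by
    rintro (_ | (i | j)) (_ | (i' | j'))
    · exact iff_of_false id fun h => hne _ _ h rfl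
    · exact iff_of_true trivial (hA1 i')
    · exact iff_of_false id fun h => hdis ((hAa _).1 h) ((hO2 _).2 ⟨j', rfl⟩)
    · exact iff_of_true trivial (hsymm _ _ (hA1 i))
    · exact (hAdj11 i i').symm
    · exact (hAdj21 j' i).symm.trans ⟨hsymm _ _, hsymm _ _⟩
    · exact iff_of_false id fun h => hdis ((hAa _).1 (hsymm _ _ h)) ((hO2 _).2 ⟨j, rfl⟩)
    · exact (hAdj21 j i').symm
    · exact (hAdj22 j j').symm
  let ρ : G →* Equiv.Perm V :=
    { toFun := fun g => σ.trans ((MulAction.toPerm g).trans σ.symm)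
      map_one' := Equiv.ext fun v => by simp
      map_mul' := fun g h => Equiv.ext fun v => by simp [mul_smul] }
  have hρ : ∀ g v, σ (ρ g v) = g • σ v := fun g v => σ.apply_symm_apply _
  refine ⟨ρ, fun g h e => ?_, fun g u v => ?_, fun x => ?_, fun g hg => ?_, fun v => ?_⟩
  · refine (inv_mul_eq_one.1 (hfaith (h⁻¹ * g) fun ω => ?_)).symm
    have := hρ g (σ.symm ω)
    rw [e, hρ, σ.apply_symm_apply] at this
    rw [mul_smul, ← this, inv_smul_smul]
  · rw [hRel, hRel, hρ, hρ, hAg]
  · refine Equiv.ext fun v => σ.injective ?_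
    rw [hρ]
    rcases v with _ | (i | j)
    exacts [hfa x, (eq1 x i).symm, (eq2 x j).symm]
  · have := hρ g none
    rw [hg] at this
    obtain ⟨x, hx⟩ := (hstab g).1 this.symm
    exact ⟨x, hx.symm⟩
  · obtain ⟨g, hg⟩ := exists_smul_eq G a (σ v)
    exact ⟨g, σ.injective ((hρ g none).trans hg)⟩

end Cfsg.Agent.SuzRankThree
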